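import Cfsg.Agent.H68.CoInst_m3
import Cfsg.Agent.H123.Cls.LFast
import Cfsg.Agent.Prune
set_option linter.all false
open scoped Cfsg.Agent.FastGrp

-- part: H123/Cls/LCt0
section
/-!
# `Co1` : bounds of the centralizers (helper123)
-/

set_option autoImplicit false
set_option maxRecDepth 1000000

namespace Cfsg.Agent.H123.Cls.CoD

open Cfsg.Agent.H123.Cls Cfsg.Agent.MonsterX.LaneLab Cfsg.Agent.H264.TC.NoReal39

theorem b0 : ∃ b L, Nat.beq (bnd CL DL XL tw b d0.R L) (Nat.succ d0.c) = true := ⟨2, [.cell [], .base 0 117059 2,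
  .two 1 13415, .aff 3 3, .cnt 0 12, .cell [(true, 2), (false, 4), (true, 0)], .base 0 11819 2, .two 2 11819, .aff
  3 3, .aff 3 15, .cell [(true, 0), (true, 10)], .cnt 0 4, .cell [(true, 7), (false, 6), (false, 4), (false, 0),
  (false, 5), (false, 3)], .cnt 0 18, .cell [(true, 6), (true, 0), (true, 7), (true, 2)], .base 0 14930 2, .two 1
  23585, .cell [(true, 0), (true, 4)], .sum 0 2, .cell [(true, 0), (true, 2)], .sum 0 2, .cell [(true, 0), (true,
  2)], .sum 0 2, .cell [(true, 0), (true, 2)], .sum 0 2, .cell [(true, 0), (true, 2)], .sum 0 2, .cell [(true, 0),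
  (true, 2)], .sum 0 2, .cell [(true, 0), (true, 2)], .sum 0 2, .cell [(true, 0), (true, 2)], .sum 0 1, .cell
  [(true, 0), (true, 4)], .sum 0 2, .cell [(true, 0), (true, 2)], .sum 0 1, .fin [2123234, 8558026, 6715013,
  12977814, 3498746, 8951497, 12051132, 8126416, 4515946, 16533799, 3218322, 10488387, 1720361, 5591463, 64822,
  11358798, 8022558, 487167, 7503920, 6136532, 903180, 15064092, 14640914, 10756023]], by
  rw [LF.bndG.2]; decide +kernel⟩

theorem b9 : ∃ b L, Nat.beq (bnd CL DL XL tw b d9.R L) (Nat.succ d9.c) = true := ⟨4, [.self 2, .aff 9 0, .cnt 0 56,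
  .cell [(true, 0), (false, 2)], .base 0 101998 4, .two 2 98338, .two 1 85234, .cell [(true, 1), (true, 0), (true,
  4), (false, 9), (false, 7)], .base 0 37832 4, .two 8 37832, .two 4 69990, .two 1 40121, .cell [(true, 0), (true,
  7)], .sum 0 2, .cell [(true, 12), (true, 18), (true, 20), (true, 7), (true, 9), (false, 16), (false, 1), (true,
  15)], .base 0 119542 2, .two 1 85075, .cell [(true, 8), (true, 0), (false, 13), (false, 9), (true, 19), (true,
  18)], .base 0 29356 4, .cell [(true, 0), (true, 4)], .sum 0 4, .cell [(true, 0), (true, 16)], .sum 0 1, .cell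
  [(true, 1), (true, 3)], .sum 0 1, .cell [(true, 4), (true, 28)], .sum 0 1, .cell [(true, 1), (true, 9)], .sum 0
  1, .fin [4961198, 10691426, 11423914, 6026465, 9544636, 16474252, 2829008, 4664727, 15264788, 1667656, 912637,
  10003084, 8128078, 10891351, 8576448, 8301889, 10176459, 14847065, 7339001, 11964420, 16426740, 5247619, 5169375,
  15610030]], by
  rw [LF.bndG.2]; decide +kernel⟩

theorem b17 : ∃ b L, Nat.beq (bnd CL DL XL tw b d17.R L) (Nat.succ d17.c) = true := ⟨5, [.self 2, .self 4, .self 8,
  .aff 21 0, .cell [(true, 0), (true, 3)], .base 0 109995 4, .two 8 109995, .two 4 16614, .two 2 79563, .two 1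
  46932, .cell [(true, 10), (false, 11), (false, 12), (false, 7), (false, 6), (false, 5), (false, 4), (false, 3),
  (false, 2), (false, 1), (false, 0)], .sum 0 1, .cell [(true, 14), (true, 9), (true, 8), (true, 0), (false, 12),
  (false, 7), (false, 13), (true, 6), (false, 3)], .sum 0 4, .cell [(true, 2), (true, 4)], .sum 0 2, .cell [(true,
  0), (true, 9)], .sum 0 1, .cell [(true, 15), (true, 12), (false, 17), (false, 24), (false, 7), (true, 10),
  (false, 8)], .base 0 91235 6, .two 1 45364, .cell [(true, 0), (true, 9)], .sum 0 6, .fin [13967627, 15210390,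
  4312994, 15252831, 14672516, 14500854, 5858258, 16740324, 9243622, 13040160, 4288288, 11898655, 5202449, 732031,
  5311727, 10459952, 13553009, 6607105, 11196153, 650756, 3758718, 10935538, 11327782, 10014871]], by
  rw [LF.bndG.2]; decide +kernel⟩

theorem b26 : ∃ b L, Nat.beq (bnd CL DL XL tw b d26.R L) (Nat.succ d26.c) = true := ⟨3, [.self 2, .self 4, .cell
  [(false, 0), (true, 1)], .base 0 129706 6, .two 32 129706, .two 4 67299, .cell [(true, 1), (true, 10), (true, 3),
  (false, 4), (true, 2), (true, 9), (true, 5), (false, 0)], .base 0 28480 6, .cell [(true, 8), (false, 12), (false,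
  4), (false, 0), (true, 16), (true, 11), (false, 2), (false, 17), (true, 9)], .base 0 128556 6, .cell [(true, 0),
  (true, 6)], .sum 0 6, .fin [5354619, 5123644, 11460562, 6860961, 6561063, 3090024, 16733574, 4067147, 2889333,
  14150874, 1357203, 12213839, 14066143, 1381479, 3324822, 12211998, 15041256, 2337145, 8664687, 13714029,
  15546865, 14246863, 15016308, 13166945]], by
  rw [LF.bndG.2]; decide +kernel⟩

theorem b36 : ∃ b L, Nat.beq (bnd CL DL XL tw b d36.R L) (Nat.succ d36.c) = true := ⟨6, [.self 2, .aff 33 0, .cell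
  [(true, 0), (true, 1)], .base 0 45183 4, .two 8 45183, .two 1 93007, .cell [(true, 6), (true, 1), (true, 0),
  (false, 4), (true, 3)], .base 0 129354 4, .two 8 129354, .two 2 117100, .two 1 69295, .cell [(true, 2), (true,
  7)], .sum 0 4, .cell [(true, 0), (true, 4)], .sum 0 4, .cell [(true, 26), (true, 20), (true, 15), (true, 16),
  (false, 3), (false, 6), (false, 22), (false, 7), (true, 5), (false, 8), (false, 21), (true, 2), (false, 23),
  (false, 1)], .base 0 41483 4, .cell [(true, 23), (true, 16), (true, 15), (false, 28), (false, 12), (false, 0)],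
  .sum 0 4, .fin [12257195, 5072395, 2463901, 14002801, 14889248, 16155457, 473649, 11865820, 11703328, 2423792,
  5459334, 11521127, 11427128, 10569474, 8020767, 961584, 2450690, 5213677, 13071573, 12788436, 11953223, 3367651,
  1449259, 12118257]], by
  rw [LF.bndG.2]; decide +kernel⟩

theorem b46 : ∃ b L, Nat.beq (bnd CL DL XL tw b d46.R L) (Nat.succ d46.c) = true := ⟨11, [.self 2, .self 4, .self
  8, .self 16, .self 32, .self 64, .aff 1365 0, .aff 585 0, .aff 273 0, .cell [(true, 0), (true, 1), (true, 8)],
  .base 0 20562 6, .two 32 20562, .two 4 129287, .cell [(true, 16), (true, 7), (true, 6), (false, 4), (false, 12),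
  (false, 13), (false, 5), (false, 2), (false, 17), (false, 14), (false, 15), (false, 11), (false, 0)], .sum 0 4,
  .cell [(true, 9), (true, 3), (true, 1), (false, 19), (false, 21), (false, 12), (true, 17), (false, 2), (false,
  20), (false, 10), (false, 22), (false, 11), (false, 6)], .sum 0 8, .two 4 81388, .two 1 21421, .cell [(true, 0),
  (true, 15)], .sum 0 2, .cell [(true, 4), (true, 18)], .sum 0 2, .cell [(true, 37), (false, 34), (true, 39),
  (true, 19), (true, 18), (false, 38), (false, 36), (true, 27), (true, 24), (true, 4), (true, 29), (true, 15),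
  (true, 13)], .sum 0 2, .fin [1928212, 12642143, 10402891, 9247641, 1811265, 10229998, 960714, 11821332, 1733358,
  15257059, 9069057, 7178325, 7625440, 8371568, 8207590, 7901331, 15736571, 15304630, 1421277, 15010798, 13062858,
  938759, 14998739, 10092506]], by
  rw [LF.bndG.2]; decide +kernel⟩

theorem b54 : ∃ b L, Nat.beq (bnd CL DL XL tw b d54.R L) (Nat.succ d54.c) = true := ⟨3, [.self 2, .self 4, .cell
  [(false, 0), (true, 1)], .base 0 106131 6, .two 32 106131, .two 8 128240, .two 4 130400, .two 2 30570, .cell
  [(true, 8), (true, 7), (false, 5), (false, 6), (true, 4), (true, 12), (true, 11), (false, 9), (false, 0), (false,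
  1), (false, 3)], .sum 0 2, .cell [(true, 5), (true, 3), (true, 14), (false, 9), (true, 15), (true, 0)], .base 0
  90000 4, .cell [(true, 18), (true, 5), (true, 2), (true, 1), (false, 0), (true, 17), (false, 14), (false, 3),
  (false, 13), (false, 15), (false, 8)], .base 0 41868 6, .cell [(true, 0), (true, 14)], .sum 0 6, .fin [8261630,
  270490, 7386113, 8934767, 3404049, 7397231, 12588498, 12718080, 1024410, 13787111, 11087803, 11972342, 13852176,
  16121595, 1874429, 5781426, 13540337, 8545789, 1272452, 11705559, 13943962, 4428901, 4581488, 2260045]], by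
  rw [LF.bndG.2]; decide +kernel⟩

theorem b65 : ∃ b L, Nat.beq (bnd CL DL XL tw b d65.R L) (Nat.succ d65.c) = true := ⟨13, [.self 2, .self 8, .self
  16, .self 32, .aff 4161 0, .cell [(true, 0), (true, 4), (false, 2), (false, 1), (true, 3)], .base 0 69672 12,
  .cell [(true, 14), (false, 15), (true, 16), (false, 17), (true, 10), (true, 9), (true, 8), (true, 0), (true, 5),
  (false, 2), (false, 3), (false, 11)], .base 0 83779 10, .cell [(true, 2), (true, 10)], .sum 0 2, .fin [3772925,
  15308571, 14768837, 16452288, 8082205, 12489516, 10512248, 6793588, 9545031, 11401219, 13346435, 1109183,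
  1612238, 8334638, 12444746, 11171568, 11297034, 823394, 9346350, 1034047, 16250100, 13177124, 6650888, 2940961]],
  by
  rw [LF.bndG.2]; decide +kernel⟩

theorem b75 : ∃ b L, Nat.beq (bnd CL DL XL tw b d75.R L) (Nat.succ d75.c) = true := ⟨23, [.self 2, .self 4, .self
  8, .self 16, .self 32, .self 64, .self 128, .self 256, .self 512, .aff 4194305 0, .sum 0 1, .cell [(true, 0),
  (false, 10), (false, 9), (false, 6), (false, 5), (false, 8), (false, 4), (false, 3), (false, 2), (false, 7)],
  .sum 0 1, .cell [(true, 11), (true, 9), (true, 5), (false, 7), (true, 6), (false, 4), (false, 2), (true, 10),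
  (true, 0)], .base 0 19582 22, .fin [6664393, 15788830, 5925213, 16506638, 1500024, 7430848, 8933558, 5902283,
  5794035, 15049938, 11282819, 7620331, 6664975, 11783601, 8771998, 11725847, 3468934, 6209915, 2234214, 2244219,
  12955576, 9390997, 565437, 7318539]], by
  rw [LF.bndG.2]; decide +kernel⟩

theorem b84 : ∃ b L, Nat.beq (bnd CL DL XL tw b d84.R L) (Nat.succ d84.c) = true := ⟨28, [.self 2, .self 8, .self
  32, .self 64, .self 512, .aff 134217729 0, .aff 17895697 0, .sum 1 1, .cell [(true, 1), (true, 6), (true, 5),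
  (false, 3), (false, 4)], .base 0 6984 18, .cell [(true, 25), (true, 23), (true, 19), (true, 16), (true, 7),
  (false, 3), (true, 15), (false, 14), (true, 0), (true, 9), (true, 6), (true, 13), (false, 26)], .sum 0 2, .cell
  [(true, 0), (true, 2)], .sum 0 3, .fin [11618289, 3720547, 12019035, 7180256, 10453638, 15316289, 6006823,
  3116960, 15059232, 13992776, 5272148, 12662747, 9456112, 210549, 1411278, 13588920, 6675207, 3137626, 13779770,
  9525744, 14347960, 2380460, 13943267, 960564]], by
  rw [LF.bndG.2]; decide +kernel⟩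

theorem b92 : ∃ b L, Nat.beq (bnd CL DL XL tw b d92.R L) (Nat.succ d92.c) = true := ⟨25, [.self 2, .self 128, .aff
  16777217 0, .cell [(true, 0), (true, 2)], .base 0 117777 6, .two 4 27896, .two 2 122960, .cell [(true, 1), (true,
  0), (false, 11), (true, 7), (false, 5), (false, 10)], .base 0 129898 18, .fin [6548385, 7742651, 9739329,
  16759171, 4474715, 8725600, 6003581, 7320963, 12952463, 94318, 6080339, 14491712, 12126955, 3534756, 12925752,
  6006926, 13286030, 2224747, 16369818, 14949369, 8113493, 16205472, 15224058, 4798005]], by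
  rw [LF.bndG.2]; decide +kernel⟩

end Cfsg.Agent.H123.Cls.CoD
end

-- part: H123/Cls/LCt5
section
/-!
# `Co1` : bounds of the centralizers (helper123)
-/

set_option autoImplicit false
set_option maxRecDepth 1000000

namespace Cfsg.Agent.H123.Cls.CoD

open Cfsg.Agent.H123.Cls Cfsg.Agent.MonsterX.LaneLab Cfsg.Agent.H264.TC.NoReal39

theorem b6 : ∃ b L, Nat.beq (bnd CL DL XL tw b d6.R L) (Nat.succ d6.c) = true := ⟨3, [.self 2, .aff 5 0, .aff 7 0,
  .cell [(false, 2), (false, 0), (false, 1)], .base 0 25456 3, .two 4 25456, .two 1 46337, .cell [(true, 7), (true,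
  1)], .base 0 46220 1, .cell [(true, 9), (true, 6), (true, 0)], .base 0 6921 1, .two 1 6921, .cell [(true, 12),
  (false, 9), (true, 1), (true, 3)], .base 0 71971 1, .cell [(true, 7), (true, 12), (false, 3), (true, 0), (false,
  11), (false, 10), (false, 2), (true, 5)], .sum 0 2, .cell [(true, 10), (true, 5), (false, 8), (true, 15), (true,
  3), (false, 14)], .base 0 123276 2, .two 1 87940, .cell [(true, 0), (true, 6)], .sum 0 2, .cell [(true, 18),
  (true, 12), (false, 5), (false, 8), (false, 7), (true, 20), (false, 25), (false, 19)], .base 0 126571 2, .cell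
  [(true, 0), (true, 12)], .sum 0 3, .cell [(true, 0), (true, 3)], .sum 0 2, .cell [(true, 0), (true, 2)], .sum 0
  3, .cell [(true, 0), (true, 3)], .sum 0 2, .fin [11629211, 5404781, 2988256, 8710631, 5801165, 5886498, 15741118,
  15816436, 7321701, 12727958, 8101765, 10719484, 11384302, 5546651, 11591829, 3471237, 16733625, 3316052,
  15002117, 10642616, 12799038, 10668507, 11274645, 10789531]], by
  rw [LF.bndG.2]; decide +kernel⟩

theorem b14 : ∃ b L, Nat.beq (bnd CL DL XL tw b d14.R L) (Nat.succ d14.c) = true := ⟨5, [.self 2, .self 4, .aff 31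
  0, .cell [(true, 0), (true, 2)], .base 0 33843 4, .two 8 33843, .two 4 124256, .cell [(true, 7), (true, 0),
  (false, 9), (false, 5), (true, 3), (true, 2)], .base 0 4970 4, .two 1 40998, .cell [(true, 7), (true, 0), (false,
  14), (true, 10), (true, 3), (true, 8)], .base 0 46038 5, .two 16 46038, .two 1 9424, .cell [(true, 3), (true,
  7)], .sum 0 1, .cell [(true, 19), (true, 14), (false, 25), (false, 6), (true, 0), (true, 8), (false, 7), (false,
  20), (false, 21), (false, 13), (false, 18), (false, 24), (true, 11), (false, 4), (false, 2)], .sum 0 1, .cell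
  [(true, 22), (true, 21), (true, 20), (true, 16), (false, 27), (true, 6), (true, 7), (true, 13), (false, 2),
  (true, 9), (true, 14), (false, 23), (true, 15), (false, 19), (false, 25), (false, 5), (false, 0)], .sum 0 1,
  .cell [(true, 25), (true, 23), (true, 18), (true, 4), (false, 0), (false, 17), (true, 8), (false, 24), (true,
  28), (false, 22), (false, 29), (false, 16), (false, 11)], .base 0 128268 5, .cell [(true, 0), (true, 7)], .sum 0
  1, .cell [(true, 2), (true, 13)], .sum 0 1, .cell [(true, 0), (true, 13)], .sum 0 1, .fin [11522989, 4862414,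
  13811367, 13689711, 1375450, 1439010, 9151222, 10834486, 993752, 9648737, 12791804, 13298446, 5020824, 9006503,
  7715748, 11196390, 14581280, 8421866, 4040133, 13050185, 16540664, 4006618, 3897532, 2395727]], by
  rw [LF.bndG.2]; decide +kernel⟩

theorem b22 : ∃ b L, Nat.beq (bnd CL DL XL tw b d22.R L) (Nat.succ d22.c) = true := ⟨5, [.self 2, .self 4, .aff 21
  0, .cell [(false, 1), (true, 2), (false, 0)], .base 0 97521 5, .two 16 97521, .two 8 126477, .two 2 123271, .cell
  [(false, 11), (true, 5), (true, 3), (false, 6), (false, 4), (false, 7), (true, 10), (false, 1), (false, 0),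
  (false, 2)], .sum 0 3, .cell [(true, 5), (true, 4), (true, 12), (true, 0), (false, 11)], .base 0 108161 1, .cell
  [(false, 17), (true, 13), (false, 3), (true, 12), (false, 10), (true, 0), (true, 9), (true, 11), (false, 4),
  (false, 2), (false, 6), (true, 16)], .sum 0 1, .cell [(true, 0), (true, 7)], .sum 0 2, .cell [(false, 21),
  (false, 22), (true, 18), (true, 16), (true, 14), (false, 17), (true, 9), (true, 8), (true, 15), (false, 7),
  (true, 5), (false, 0)], .base 0 99280 5, .two 1 17604, .cell [(true, 0), (true, 9)], .sum 0 4, .cell [(true, 0),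
  (true, 4)], .sum 0 2, .cell [(true, 0), (true, 7)], .sum 0 1, .fin [6884786, 8782270, 2045053, 163660, 10804076,
  5039764, 15777906, 9477342, 14807542, 757546, 4928375, 12858027, 14684310, 15351404, 7525145, 5025265, 10306823,
  8401886, 174453, 9083810, 10945565, 11324543, 8603910, 5832300]], by
  rw [LF.bndG.2]; decide +kernel⟩

theorem b32 : ∃ b L, Nat.beq (bnd CL DL XL tw b d32.R L) (Nat.succ d32.c) = true := ⟨7, [.self 2, .self 4, .self 8,
  .aff 65 0, .cell [(true, 0), (false, 3)], .base 0 70359 2, .two 2 70359, .cell [(true, 4), (true, 0), (true, 7)],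
  .base 0 8671 3, .two 2 88418, .two 1 70278, .cell [(true, 1), (true, 12), (false, 2), (false, 11), (true, 4),
  (false, 13)], .sum 0 1, .cell [(true, 3), (true, 2), (true, 9), (true, 0), (false, 14)], .base 0 102929 6, .two 1
  11059, .cell [(true, 0), (true, 7)], .sum 0 6, .cell [(true, 0), (true, 16)], .sum 0 6, .fin [3091088, 6157495,
  16763152, 6554190, 11813138, 6561801, 1400544, 13764608, 9175575, 5654382, 15356608, 97000, 6062603, 9715986,
  940882, 7252465, 4439553, 12272173, 12903695, 5117118, 4973795, 2358657, 15081735, 13634380]], by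
  rw [LF.bndG.2]; decide +kernel⟩

theorem b42 : ∃ b L, Nat.beq (bnd CL DL XL tw b d42.R L) (Nat.succ d42.c) = true := ⟨7, [.self 2, .self 4, .self 8,
  .aff 65 0, .cell [(true, 0), (true, 3)], .base 0 87891 4, .two 8 87891, .two 2 40730, .two 1 112749, .cell
  [(true, 11), (true, 5), (true, 4), (false, 6), (true, 9), (false, 3), (true, 10), (false, 2), (false, 0)], .sum 0
  2, .cell [(true, 8), (true, 12), (false, 14), (true, 6), (false, 9), (false, 7), (true, 1), (true, 0), (true,
  13), (false, 5), (false, 4)], .sum 0 2, .two 1 79121, .cell [(true, 8), (true, 7), (true, 13), (true, 12), (true,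
  2), (true, 5)], .base 0 42724 4, .cell [(true, 5), (true, 17), (true, 10), (false, 15), (true, 23), (false, 2),
  (false, 18), (false, 21), (true, 1)], .base 0 44699 8, .cell [(true, 0), (true, 17)], .sum 0 4, .fin [1003687,
  16186683, 9944015, 299955, 4706789, 4399810, 13536252, 3736571, 7836361, 15716384, 1892834, 1863752, 13816649,
  11450215, 6835949, 4034106, 1084601, 9929326, 3724691, 12134709, 11531682, 12250472, 10092229, 15019536]], by
  rw [LF.bndG.2]; decide +kernel⟩

theorem b51 : ∃ b L, Nat.beq (bnd CL DL XL tw b d51.R L) (Nat.succ d51.c) = true := ⟨7, [.self 2, .self 4, .self 8,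
  .aff 65 0, .cell [(true, 0), (true, 3)], .base 0 25312 4, .two 8 25312, .two 4 112867, .two 2 20332, .cell
  [(true, 3), (true, 11), (false, 5), (false, 6), (false, 4), (true, 10), (false, 9), (false, 1), (false, 2),
  (false, 0)], .sum 0 4, .cell [(true, 7), (true, 6), (false, 9), (false, 5), (false, 16), (false, 8), (true, 15)],
  .base 0 98915 4, .cell [(true, 12), (true, 11), (true, 3), (true, 8), (false, 7), (false, 21), (false, 19),
  (false, 1)], .base 0 607 6, .two 1 112146, .cell [(true, 0), (true, 7)], .sum 0 6, .fin [9503778, 7300096,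
  11925682, 16008226, 12279137, 10461014, 3398600, 4638898, 6862445, 12122103, 6269656, 7627810, 15419319, 5424062,
  10119684, 7793380, 209480, 602413, 10724289, 16103023, 2655555, 8276660, 4891668, 9568312]], by
  rw [LF.bndG.2]; decide +kernel⟩

theorem b61 : ∃ b L, Nat.beq (bnd CL DL XL tw b d61.R L) (Nat.succ d61.c) = true := ⟨15, [.self 2, .self 8, .self
  16, .self 32, .aff 16385 0, .aff 4097 0, .sum 1 1, .cell [(true, 1), (true, 6)], .base 0 108325 2, .two 2 108325,
  .two 1 119925, .cell [(true, 1), (false, 8), (true, 5), (true, 11), (false, 10), (false, 9), (false, 2)], .cnt 0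
  10, .cell [(true, 0), (true, 8)], .sum 0 1, .cell [(true, 2), (true, 5), (false, 15), (false, 12)], .base 0 5200
  12, .two 2 22177, .cell [(true, 18), (true, 0), (false, 5), (true, 29), (true, 23), (true, 10), (false, 1)],
  .base 0 40758 8, .fin [15473224, 10554403, 4377412, 12323840, 11911255, 9007584, 12036206, 2222977, 5944799,
  3700304, 10299737, 13197211, 4283392, 570999, 5836999, 14471185, 11354820, 6814882, 15817563, 3591372, 11207467,
  6649787, 16276855, 9621351]], by
  rw [LF.bndG.2]; decide +kernel⟩

theorem b71 : ∃ b L, Nat.beq (bnd CL DL XL tw b d71.R L) (Nat.succ d71.c) = true := ⟨15, [.self 2, .self 4, .self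
  32, .aff 16513 0, .cell [(true, 0), (true, 3), (true, 1), (false, 2)], .base 0 92275 12, .two 4 7863, .two 2
  10699, .cell [(true, 1), (true, 0), (true, 13), (true, 10), (true, 12), (false, 5), (false, 18)], .base 0 92615
  6, .two 16 78417, .cell [(true, 0), (true, 7)], .sum 0 6, .fin [6514858, 4871019, 3998293, 3143605, 10467374,
  7269742, 12977610, 15936117, 14535311, 5716613, 5674709, 4918720, 14599006, 5060156, 4926472, 12092647, 13958020,
  2131994, 5139894, 7642491, 6318847, 15905430, 9293394, 16559958]], by
  rw [LF.bndG.2]; decide +kernel⟩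

theorem b81 : ∃ b L, Nat.beq (bnd CL DL XL tw b d81.R L) (Nat.succ d81.c) = true := ⟨22, [.self 2, .self 4, .self
  8, .self 16, .self 32, .self 64, .aff 2097153 0, .aff 4097 0, .base 1 114688 2, .two 2 114688, .two 1 74423,
  .cell [(true, 1), (false, 2), (false, 7), (false, 9), (true, 11), (false, 0)], .cnt 0 24, .cell [(true, 0),
  (false, 10), (false, 8), (true, 4), (true, 9), (true, 13), (false, 5), (false, 3)], .cnt 0 8, .cell [(true, 2),
  (false, 0), (false, 15), (false, 13), (false, 10), (true, 11), (true, 7), (true, 6)], .cnt 0 8, .cell [(true, 0),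
  (true, 4)], .sum 0 2, .cell [(true, 13), (true, 10), (false, 5), (true, 9), (false, 14), (false, 7)], .base 0
  76608 4, .two 1 70313, .cell [(true, 0), (true, 13), (false, 2), (false, 9), (false, 21), (true, 25)], .base 0
  35230 8, .two 2 37742, .cell [(true, 0), (false, 21), (true, 19), (true, 14), (true, 35), (false, 31), (true,
  32), (true, 36)], .base 0 122115 8, .fin [14899067, 16034808, 5694682, 5791109, 1956897, 3668406, 7753723,
  1118860, 16021831, 13445403, 5874759, 1460070, 4373100, 11199548, 4211004, 12741035, 5239563, 14473457, 15036363,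
  916980, 3485848, 6001971, 13054264, 1452733]], by
  rw [LF.bndG.2]; decide +kernel⟩

theorem b89 : ∃ b L, Nat.beq (bnd CL DL XL tw b d89.R L) (Nat.succ d89.c) = true := ⟨8, [.self 2, .self 4, .self 8,
  .self 16, .self 32, .self 128, .cell [(false, 1), (true, 3), (false, 5), (false, 2), (false, 0), (true, 4)], .cnt
  0 108, .cell [(true, 0), (false, 3), (true, 6), (true, 4), (true, 2)], .base 0 1459 16, .two 1 103492, .cell
  [(true, 0), (true, 17)], .sum 0 8, .fin [3589987, 6887270, 10729624, 875271, 11829747, 8575300, 8387594, 9822261,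
  5352702, 15247185, 1361414, 2150459, 4701379, 14669820, 1650763, 2941036, 14783420, 9130369, 2415009, 686285,
  10180145, 2833075, 553959, 12843644]], by
  rw [LF.bndG.2]; decide +kernel⟩

theorem b97 : ∃ b L, Nat.beq (bnd CL DL XL tw b d97.R L) (Nat.succ d97.c) = true := ⟨5, [.self 2, .self 4, .self 8,
  .aff 17 0, .cell [(true, 0), (true, 3)], .base 0 128552 2, .two 2 128552, .two 1 98958, .cell [(true, 0), (true,
  4)], .sum 0 2, .two 1 44223, .cell [(true, 0), (true, 3)], .sum 0 1, .cell [(true, 9), (true, 0), (true, 4),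
  (false, 14), (false, 8), (true, 12), (false, 13), (false, 6), (false, 2)], .sum 0 1, .cell [(true, 13), (true,
  8), (true, 5), (true, 2), (false, 16), (true, 0)], .base 0 94928 2, .two 2 94928, .two 1 4462, .cell [(true, 14),
  (true, 1), (true, 11), (true, 2), (true, 21), (false, 19)], .base 0 84240 4, .cell [(true, 25), (false, 26),
  (true, 24), (true, 2), (false, 16), (false, 21), (true, 8), (true, 1), (true, 20), (true, 0), (false, 5), (false,
  3)], .base 0 19429 6, .two 1 6970, .cell [(true, 0), (true, 19)], .sum 0 4, .cell [(true, 2), (true, 4)], .sum 0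
  2, .fin [9315176, 11805534, 14140830, 5841470, 4733221, 12900093, 5799270, 11995744, 1530354, 15007145, 12031736,
  6453600, 15846327, 16200591, 1797092, 2192602, 11162865, 6184671, 15845168, 12170625, 1401865, 3605602, 3112437,
  14033289]], by
  rw [LF.bndG.2]; decide +kernel⟩

end Cfsg.Agent.H123.Cls.CoD
end
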