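import Cfsg.Agent.H123.Cls.Eng
import Mathlib.Algebra.BigOperators.ModEq
import Cfsg.Agent.Prune
set_option linter.all false
prune_inst 0x7f00000000000000000000000000000000000000000000000000000000000000000000000000000000000000000000000000000000000000000000000000000000000000000000000000000000000000003fffffffffffffffffffffffffffbeffbdffffffff
open scoped Cfsg.Agent.FastGrp

/-!
# Population count and parity of large masks (helper123)

`popS w M x` : the number of bits of `x`, by fields of `w` bits, modulo `2 ^ w - 1` (`M = cmb w k`: the multiples of `w`);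
`parF k x` : the parity. Few operations for the kernel.
-/

set_option autoImplicit false

namespace Cfsg.Agent.H123.Cls

open Finset

/-- strict application, for large arguments: the argument is evaluated once (cache of the kernel) -/
noncomputable def fB {α : Type} (x : ℕ) (k : ℕ → α) : α := Bool.rec (k x) (k x) (Nat.beq x 0)

theorem fB_eq {α : Type} (x : ℕ) (k : ℕ → α) : fB x k = k x := by
  unfold fB
  cases Nat.beq x 0 <;> rfl

/-- the multiples of `w` below `w * 2 ^ k` -/
noncomputable def cmb (w : ℕ) : ℕ → ℕ :=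
  Nat.rec 1 (fun k m => fB m fun m => Nat.lor m (Nat.shiftLeft m (Nat.mul w (Nat.pow 2 k))))

theorem cmb_succ (w k : ℕ) : cmb w (k + 1) = cmb w k ||| (cmb w k) <<< (w * 2 ^ k) := by
  show fB (cmb w k) (fun m => Nat.lor m (Nat.shiftLeft m (Nat.mul w (Nat.pow 2 k)))) = _
  rw [fB_eq]
  rfl

theorem testBit_cmb {w : ℕ} (hw : 0 < w) : ∀ (k i : ℕ), (cmb w k).testBit i = decide (w ∣ i ∧ i < w * 2 ^ k)
  | 0, i => by
    have e : cmb w 0 = 1 := rfl
    rw [e, pow_zero, mul_one, Bool.eq_iff_iff, Nat.testBit_one_eq_true_iff_self_eq_zero, decide_eq_true_iff]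
    constructor
    · intro h; subst h; exact ⟨dvd_zero _, hw⟩
    · rintro ⟨⟨j, rfl⟩, h⟩
      have : j < 1 := by
        by_contra hc
        have : w * 1 ≤ w * j := Nat.mul_le_mul_left _ (not_lt.1 hc)
        omega
      have : j = 0 := by omega
      rw [this, mul_zero]
  | k + 1, i => by
    rw [cmb_succ, Nat.testBit_or, Nat.testBit_shiftLeft, testBit_cmb hw k, testBit_cmb hw k]
    have hp : w * 2 ^ (k + 1) = w * 2 ^ k + w * 2 ^ k := by ring
    have hd : w ∣ w * 2 ^ k := Dvd.intro _ rfl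
    rw [hp]
    by_cases h : i < w * 2 ^ k
    · have h1 : ¬ (i ≥ w * 2 ^ k) := by omega
      have h2 : i < w * 2 ^ k + w * 2 ^ k := by omega
      simp [h, h1, h2]
    · have h1 : i ≥ w * 2 ^ k := by omega
      have h3 : (w ∣ i - w * 2 ^ k) ↔ w ∣ i := by
        constructor
        · intro h4
          have := Nat.dvd_add h4 hd
          rwa [Nat.sub_add_cancel h1] at this
        · intro h4
          exact Nat.dvd_sub h4 hd
      by_cases h2 : i < w * 2 ^ k + w * 2 ^ k
      · have h4 : i - w * 2 ^ k < w * 2 ^ k := by omega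
        simp [h, h1, h2, h4, h3]
      · have h4 : ¬ (i - w * 2 ^ k < w * 2 ^ k) := by omega
        simp [h, h1, h2, h4]

theorem mod_two_pow_eq_sum (x m : ℕ) : x % 2 ^ m = ∑ i ∈ range m, (x.testBit i).toNat * 2 ^ i := by
  induction m with
  | zero => simp [Nat.mod_one]
  | succ m ih => rw [Nat.mod_pow_succ, ih, sum_range_succ, mul_comm (2 ^ m), Nat.toNat_testBit]

theorem sum_blocks (w : ℕ) (f : ℕ → ℕ) : ∀ L : ℕ,
    ∑ i ∈ range (w * L), f i = ∑ j ∈ range L, ∑ t ∈ range w, f (w * j + t)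
  | 0 => by simp
  | L + 1 => by
    rw [mul_add, mul_one, sum_range_add, sum_blocks w f L, sum_range_succ]

/-- the sum of the fields -/
noncomputable def popA (M x : ℕ) : ℕ → ℕ :=
  Nat.rec 0 (fun s acc => fB acc fun a => Nat.add a (Nat.land (Nat.shiftRight x s) M))

theorem popA_eq (M x w : ℕ) : popA M x w = ∑ s ∈ range w, ((x >>> s) &&& M) := by
  induction w with
  | zero => rfl
  | succ w ih =>
    have e : popA M x (w + 1) = fB (popA M x w) (fun a => Nat.add a (Nat.land (Nat.shiftRight x w) M)) := rfl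
    rw [e, fB_eq, ih, sum_range_succ]
    rfl

/-- the number of bits -/
noncomputable def popS (w M x : ℕ) : ℕ := Nat.mod (popA M x w) (Nat.sub (Nat.pow 2 w) 1)

theorem field_modEq {w k x s : ℕ} (hw : 0 < w) : ((x >>> s) &&& cmb w k) ≡
    ∑ j ∈ range (2 ^ k), (x.testBit (w * j + s)).toNat [MOD 2 ^ w - 1] := by
  have hlt : ((x >>> s) &&& cmb w k) < 2 ^ (w * 2 ^ k) := by
    apply Nat.lt_pow_two_of_testBit
    intro i hi
    rw [Nat.testBit_and, testBit_cmb hw]
    have : ¬ (i < w * 2 ^ k) := by omega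
    simp [this]
  have h1 : ((x >>> s) &&& cmb w k) = ∑ j ∈ range (2 ^ k), (x.testBit (w * j + s)).toNat * 2 ^ (w * j) := by
    conv_lhs => rw [← Nat.mod_eq_of_lt hlt]
    rw [mod_two_pow_eq_sum, sum_blocks]
    refine sum_congr rfl fun j hj => ?_
    rw [mem_range] at hj
    rw [sum_eq_single 0]
    · rw [add_zero, Nat.testBit_and, testBit_cmb hw, Nat.testBit_shiftRight]
      have h2 : w * j < w * 2 ^ k := Nat.mul_lt_mul_of_pos_left hj hw
      rw [add_comm s]
      simp [h2]
    · intro t ht h0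
      rw [mem_range] at ht
      rw [Nat.testBit_and, testBit_cmb hw]
      have : ¬ (w ∣ w * j + t) := by
        intro h
        have h3 := (Nat.dvd_add_right (Dvd.intro _ rfl : w ∣ w * j)).1 h
        exact absurd (Nat.le_of_dvd (Nat.pos_of_ne_zero h0) h3) (by omega)
      simp [this]
    · intro h
      exact absurd (mem_range.2 hw) h
  rw [h1]
  refine Nat.ModEq.sum fun j _ => ?_
  have h2 : 2 ^ w ≡ 1 [MOD 2 ^ w - 1] := by
    have h3 : 1 ≤ 2 ^ w := Nat.one_le_two_pow
    exact ((Nat.modEq_iff_dvd' h3).2 dvd_rfl).symm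
  have h3 : 2 ^ (w * j) ≡ 1 [MOD 2 ^ w - 1] := by
    rw [pow_mul]
    simpa using h2.pow j
  simpa using h3.mul_left ((x.testBit (w * j + s)).toNat)

theorem popS_eq {w k x : ℕ} (hw : 0 < w) (h : ∑ i ∈ range (w * 2 ^ k), (x.testBit i).toNat < 2 ^ w - 1) :
    popS w (cmb w k) x = ∑ i ∈ range (w * 2 ^ k), (x.testBit i).toNat := by
  have e : popS w (cmb w k) x = (∑ s ∈ range w, ((x >>> s) &&& cmb w k)) % (2 ^ w - 1) := by
    rw [← popA_eq]; rfl
  rw [e]
  have h1 : (∑ s ∈ range w, ((x >>> s) &&& cmb w k)) ≡ ∑ i ∈ range (w * 2 ^ k), (x.testBit i).toNat [MOD 2 ^ w - 1] := by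
    rw [sum_blocks, sum_comm]
    exact Nat.ModEq.sum fun s _ => field_modEq hw
  rw [h1]
  exact Nat.mod_eq_of_lt h

/-- the parity -/
noncomputable def parF (k : ℕ) : ℕ → ℕ :=
  Nat.rec (fun x => Nat.land x 1) (fun k ih x =>
    fB (Nat.xor (Nat.mod x (Nat.pow 2 (Nat.pow 2 k))) (Nat.shiftRight x (Nat.pow 2 k))) ih) k

theorem parF_eq : ∀ (k x : ℕ), parF k x = (∑ i ∈ range (2 ^ k), (x.testBit i).toNat) % 2
  | 0, x => by
    show x &&& 1 = _
    rw [Nat.and_one_is_mod, pow_zero, sum_range_one, Nat.testBit_zero]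
    rcases Nat.mod_two_eq_zero_or_one x with h | h <;> simp [h]
  | k + 1, x => by
    have e : parF (k + 1) x = parF k ((x % 2 ^ (2 ^ k)) ^^^ (x >>> (2 ^ k))) := by
      show fB (Nat.xor (Nat.mod x (Nat.pow 2 (Nat.pow 2 k))) (Nat.shiftRight x (Nat.pow 2 k))) (parF k) = _
      rw [fB_eq]
      rfl
    rw [e, parF_eq k]
    have hp : 2 ^ (k + 1) = 2 ^ k + 2 ^ k := by ring
    rw [hp, sum_range_add, ← sum_add_distrib]
    refine Nat.ModEq.sum fun i hi => ?_
    rw [mem_range] at hi
    rw [Nat.testBit_xor, Nat.testBit_mod_two_pow, Nat.testBit_shiftRight]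
    have h1 : decide (i < 2 ^ k) = true := decide_eq_true hi
    rw [h1, Bool.true_and]
    cases x.testBit i <;> cases x.testBit (2 ^ k + i) <;> decide

end Cfsg.Agent.H123.Cls
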