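import Cfsg.Agent.H68.CoInst_m3
import Cfsg.Agent.H123.Cls.LFast
import Cfsg.Agent.H68.CoMdl
import Cfsg.Agent.Prune
set_option linter.all false

-- part: H123/Cls/LCt12_mg
section
set_option linter.all false
open scoped Cfsg.Agent.FastGrp

-- part: H123/Cls/LCt12
section
/-!
# `Co1` : bounds of the centralizers (helper123)
-/

set_option autoImplicit false
set_option maxRecDepth 1000000

namespace Cfsg.Agent.H123.Cls.CoD

open Cfsg.Agent.H123.Cls Cfsg.Agent.MonsterX.LaneLab Cfsg.Agent.H264.TC.NoReal39

theorem b73 : ∃ b L, Nat.beq (bnd CL DL XL tw b d73.R L) (Nat.succ d73.c) = true := ⟨6, [.self 2, .self 4, .self 8,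
  .self 16, .self 32, .cell [(false, 2), (true, 4), (true, 0), (true, 3), (true, 1)], .cnt 0 704, .cell [(true, 0),
  (false, 4), (true, 6), (true, 3), (true, 5)], .cnt 0 272, .cell [(true, 0), (false, 4), (true, 8)], .base 0
  120175 12, .two 1 79126, .cell [(true, 0), (true, 13)], .sum 0 12, .fin [13872077, 15074435, 14508124, 6391576,
  16089194, 14631682, 9165095, 2803229, 13569487, 5175940, 1972381, 10585883, 13947850, 14617899, 10620975,
  8367700, 11197013, 11834995, 12282619, 12851862, 16610376, 12951856, 959028, 15346209]], by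
  rw [LF.bndG.2]; decide +kernel⟩

end Cfsg.Agent.H123.Cls.CoD
end

-- part: H123/Cls/LCt14
section
/-!
# `Co1` : bounds of the centralizers (helper123)
-/

set_option autoImplicit false
set_option maxRecDepth 1000000

namespace Cfsg.Agent.H123.Cls.CoD

open Cfsg.Agent.H123.Cls Cfsg.Agent.MonsterX.LaneLab Cfsg.Agent.H264.TC.NoReal39

theorem b80 : ∃ b L, Nat.beq (bnd CL DL XL tw b d80.R L) (Nat.succ d80.c) = true := ⟨19, [.self 2, .self 4, .self
  8, .self 16, .self 32, .aff 262145 0, .cell [(false, 2), (true, 3), (true, 4), (false, 5)], .cnt 0 1024, .base 0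
  16838 4, .two 8 16838, .two 4 34618, .two 2 2028, .two 1 72619, .cell [(true, 10), (true, 3), (false, 1), (false,
  2), (false, 0), (false, 8)], .sum 0 2, .cell [(true, 6), (false, 8), (true, 7), (false, 18), (true, 17), (false,
  9), (false, 4)], .cnt 0 12, .cell [(true, 8), (false, 10), (true, 0), (true, 20), (false, 9), (false, 6), (false,
  16), (true, 3)], .base 0 16734 10, .two 16 72613, .two 2 72584, .cell [(true, 0), (true, 12)], .sum 0 4, .two 4
  23333, .two 2 47395, .cell [(true, 8), (true, 0), (true, 1), (false, 40), (true, 22), (false, 15), (false, 39)],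
  .sum 0 4, .fin [2718296, 5843051, 7748104, 6006908, 2309943, 1402829, 1717089, 9419240, 10185602, 8554084,
  11468063, 15025507, 2980771, 10226743, 8502727, 9103797, 13533381, 10024308, 1798106, 10226723, 9661214, 1577301,
  1754929, 2337261]], by
  rw [LF.bndG.2]; decide +kernel⟩

end Cfsg.Agent.H123.Cls.CoD
end
end

-- part: H123/Cls/LKy2_mg
section
set_option linter.all false
open scoped Cfsg.Agent.FastGrp

-- part: H123/Cls/LKy2
section
/-!
# `Co1` : keys of the classes (helper123)
-/

set_option autoImplicit false
set_option maxRecDepth 1000000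

namespace Cfsg.Agent.H123.Cls.CoD

open Cfsg.Agent.H123.Cls Cfsg.Agent.MonsterX.LaneLab Cfsg.Agent.H264.TC.NoReal39

theorem k2 : okK CL DL XL d2 = true := by rw [LF.okKG.2]; decide +kernel

theorem k6 : okK CL DL XL d6 = true := by rw [LF.okKG.2]; decide +kernel

theorem k10 : okK CL DL XL d10 = true := by rw [LF.okKG.2]; decide +kernel

theorem k14 : okK CL DL XL d14 = true := by rw [LF.okKG.2]; decide +kernel

theorem k18 : okK CL DL XL d18 = true := by rw [LF.okKG.2]; decide +kernel

theorem k22 : okK CL DL XL d22 = true := by rw [LF.okKG.2]; decide +kernel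

theorem k26 : okK CL DL XL d26 = true := by rw [LF.okKG.2]; decide +kernel

theorem k30 : okK CL DL XL d30 = true := by rw [LF.okKG.2]; decide +kernel

theorem k34 : okK CL DL XL d34 = true := by rw [LF.okKG.2]; decide +kernel

theorem k38 : okK CL DL XL d38 = true := by rw [LF.okKG.2]; decide +kernel

theorem k42 : okK CL DL XL d42 = true := by rw [LF.okKG.2]; decide +kernel

theorem k46 : okK CL DL XL d46 = true := by rw [LF.okKG.2]; decide +kernel

theorem k50 : okK CL DL XL d50 = true := by rw [LF.okKG.2]; decide +kernel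

theorem k54 : okK CL DL XL d54 = true := by rw [LF.okKG.2]; decide +kernel

theorem k58 : okK CL DL XL d58 = true := by rw [LF.okKG.2]; decide +kernel

theorem k62 : okK CL DL XL d62 = true := by rw [LF.okKG.2]; decide +kernel

theorem k66 : okK CL DL XL d66 = true := by rw [LF.okKG.2]; decide +kernel

theorem k70 : okK CL DL XL d70 = true := by rw [LF.okKG.2]; decide +kernel

theorem k74 : okK CL DL XL d74 = true := by rw [LF.okKG.2]; decide +kernel

theorem k78 : okK CL DL XL d78 = true := by rw [LF.okKG.2]; decide +kernel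

theorem k82 : okK CL DL XL d82 = true := by rw [LF.okKG.2]; decide +kernel

theorem k86 : okK CL DL XL d86 = true := by rw [LF.okKG.2]; decide +kernel

theorem k90 : okK CL DL XL d90 = true := by rw [LF.okKG.2]; decide +kernel

theorem k94 : okK CL DL XL d94 = true := by rw [LF.okKG.2]; decide +kernel

theorem k98 : okK CL DL XL d98 = true := by rw [LF.okKG.2]; decide +kernel

end Cfsg.Agent.H123.Cls.CoD
end

-- part: H123/Cls/LKy3
section
/-!
# `Co1` : keys of the classes (helper123)
-/

set_option autoImplicit false
set_option maxRecDepth 1000000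

namespace Cfsg.Agent.H123.Cls.CoD

open Cfsg.Agent.H123.Cls Cfsg.Agent.MonsterX.LaneLab Cfsg.Agent.H264.TC.NoReal39

theorem k3 : okK CL DL XL d3 = true := by rw [LF.okKG.2]; decide +kernel

theorem k7 : okK CL DL XL d7 = true := by rw [LF.okKG.2]; decide +kernel

theorem k11 : okK CL DL XL d11 = true := by rw [LF.okKG.2]; decide +kernel

theorem k15 : okK CL DL XL d15 = true := by rw [LF.okKG.2]; decide +kernel

theorem k19 : okK CL DL XL d19 = true := by rw [LF.okKG.2]; decide +kernel

theorem k23 : okK CL DL XL d23 = true := by rw [LF.okKG.2]; decide +kernel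

theorem k27 : okK CL DL XL d27 = true := by rw [LF.okKG.2]; decide +kernel

theorem k31 : okK CL DL XL d31 = true := by rw [LF.okKG.2]; decide +kernel

theorem k35 : okK CL DL XL d35 = true := by rw [LF.okKG.2]; decide +kernel

theorem k39 : okK CL DL XL d39 = true := by rw [LF.okKG.2]; decide +kernel

theorem k43 : okK CL DL XL d43 = true := by rw [LF.okKG.2]; decide +kernel

theorem k47 : okK CL DL XL d47 = true := by rw [LF.okKG.2]; decide +kernel

theorem k51 : okK CL DL XL d51 = true := by rw [LF.okKG.2]; decide +kernel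

theorem k55 : okK CL DL XL d55 = true := by rw [LF.okKG.2]; decide +kernel

theorem k59 : okK CL DL XL d59 = true := by rw [LF.okKG.2]; decide +kernel

theorem k63 : okK CL DL XL d63 = true := by rw [LF.okKG.2]; decide +kernel

theorem k67 : okK CL DL XL d67 = true := by rw [LF.okKG.2]; decide +kernel

theorem k71 : okK CL DL XL d71 = true := by rw [LF.okKG.2]; decide +kernel

theorem k75 : okK CL DL XL d75 = true := by rw [LF.okKG.2]; decide +kernel

theorem k79 : okK CL DL XL d79 = true := by rw [LF.okKG.2]; decide +kernel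

theorem k83 : okK CL DL XL d83 = true := by rw [LF.okKG.2]; decide +kernel

theorem k87 : okK CL DL XL d87 = true := by rw [LF.okKG.2]; decide +kernel

theorem k91 : okK CL DL XL d91 = true := by rw [LF.okKG.2]; decide +kernel

theorem k95 : okK CL DL XL d95 = true := by rw [LF.okKG.2]; decide +kernel

theorem k99 : okK CL DL XL d99 = true := by rw [LF.okKG.2]; decide +kernel

end Cfsg.Agent.H123.Cls.CoD
end
end
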