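import Cfsg.Agent.H68.CoInst_m3
import Cfsg.Agent.H123.Cls.LFast
import Cfsg.Agent.Prune
set_option linter.all false
open scoped Cfsg.Agent.FastGrp

-- part: H123/Cls/LCt2
section
/-!
# `Co1` : bounds of the centralizers (helper123)
-/

set_option autoImplicit false
set_option maxRecDepth 1000000

namespace Cfsg.Agent.H123.Cls.CoD

open Cfsg.Agent.H123.Cls Cfsg.Agent.MonsterX.LaneLab Cfsg.Agent.H264.TC.NoReal39

theorem b3 : ∃ b L, Nat.beq (bnd CL DL XL tw b d3.R L) (Nat.succ d3.c) = true := ⟨1, [.cell [], .base 0 17952 2,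
  .two 2 17952, .two 1 123394, .cell [(true, 1), (true, 2)], .base 0 24120 2, .two 2 24120, .two 1 10627, .cell
  [(true, 5), (true, 1), (true, 8), (true, 2)], .base 0 123447 2, .cell [(true, 8), (false, 11), (false, 5),
  (false, 9), (true, 6), (false, 3), (true, 1), (false, 0)], .base 0 6135 2, .two 1 102358, .cell [(true, 0),
  (true, 3)], .sum 0 2, .cell [(true, 11), (false, 18), (false, 12), (true, 17), (false, 1), (true, 5), (false,
  16), (false, 7), (true, 8), (false, 4)], .base 0 46635 2, .cell [(true, 19), (false, 20), (true, 1), (false, 3),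
  (false, 18), (true, 15), (true, 11), (true, 16), (false, 0)], .base 0 38196 2, .cell [(true, 18), (true, 14),
  (false, 23), (true, 10), (true, 13), (false, 19), (false, 24), (false, 11), (false, 1), (false, 6), (true, 7),
  (true, 3), (false, 0), (false, 17)], .sum 0 2, .cell [(true, 0), (true, 2)], .sum 0 2, .cell [(true, 30), (true,
  24), (false, 25), (true, 17), (false, 13), (false, 1), (true, 10), (false, 7), (false, 12), (false, 16), (false,
  0), (false, 4), (true, 29), (false, 9), (false, 19), (false, 6), (false, 3)], .sum 0 2, .cell [(true, 28), (true,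
  6), (false, 27), (false, 3), (true, 0), (true, 12), (false, 13), (false, 33), (false, 23), (false, 20), (false,
  22), (false, 1), (false, 9), (false, 7), (true, 4), (false, 31)], .sum 0 2, .cell [(true, 0), (true, 5)], .sum 0
  2, .fin [10639597, 13336398, 9259314, 8069098, 1371493, 10971466, 8164063, 891230, 918851, 3415078, 4207443,
  157064, 11401921, 16157973, 2137154, 14592257, 3234822, 1157456, 12055165, 1167856, 1580743, 1385181, 2607725,
  3706090]], by
  rw [LF.bndG.2]; decide +kernel⟩

theorem b11 : ∃ b L, Nat.beq (bnd CL DL XL tw b d11.R L) (Nat.succ d11.c) = true := ⟨4, [.self 2, .aff 9 0, .cnt 0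
  28, .base 0 63122 4, .two 8 63122, .two 4 43258, .two 2 121426, .two 1 13165, .cell [(true, 0), (true, 9)], .sum
  0 1, .base 1 41019 1, .two 1 41019, .cell [(true, 7), (true, 0), (false, 10), (false, 2), (true, 14), (false, 9),
  (false, 6)], .base 0 28547 4, .cell [(true, 15), (true, 0), (true, 19), (false, 6), (true, 2), (true, 7), (false,
  14), (false, 1), (false, 3), (false, 13), (false, 10), (false, 9), (false, 12)], .sum 0 1, .cell [(true, 18),
  (true, 17), (false, 16), (false, 5), (false, 15), (true, 8), (true, 21), (false, 0), (true, 9), (true, 4),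
  (false, 3), (false, 2), (false, 11)], .sum 0 1, .cell [(true, 16), (false, 2), (false, 5), (true, 17), (true, 7),
  (true, 19), (true, 10), (true, 4), (true, 6), (true, 23)], .base 0 10167 4, .two 1 120296, .cell [(true, 0),
  (true, 5)], .sum 0 4, .cell [(true, 0), (true, 12)], .sum 0 2, .cell [(true, 0), (true, 2)], .sum 0 2, .fin
  [9003676, 14284210, 10467496, 5746821, 13578364, 14650253, 11632802, 281064, 739388, 9775609, 3646442, 1216849,
  14675370, 11673731, 2077074, 3741864, 5143341, 8247932, 8263384, 3442077, 9896878, 3684548, 8463170, 3176114]],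
  by
  rw [LF.bndG.2]; decide +kernel⟩

theorem b19 : ∃ b L, Nat.beq (bnd CL DL XL tw b d19.R L) (Nat.succ d19.c) = true := ⟨2, [.self 2, .base 0 12000 4,
  .two 8 12000, .two 2 123056, .two 1 27327, .cell [(true, 5), (false, 3), (false, 7), (false, 6), (false, 4),
  (false, 0), (false, 2), (false, 1)], .sum 0 2, .cell [(true, 5), (true, 3), (true, 4), (false, 0), (true, 10)],
  .base 0 9592 4, .two 2 10509, .cell [(true, 0), (true, 8)], .sum 0 4, .cell [(true, 14), (true, 5), (true, 3),
  (true, 2), (false, 12), (false, 9), (false, 11), (true, 18)], .base 0 4919 4, .two 1 90389, .cell [(true, 0),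
  (true, 10)], .sum 0 4, .cell [(true, 0), (true, 15)], .sum 0 2, .fin [5207481, 4926600, 11375551, 13332468,
  6682472, 7976983, 5374189, 15947010, 553014, 369922, 12972739, 342561, 14978217, 5289012, 15302105, 5782316,
  7905113, 13838181, 15319146, 2504410, 7053203, 4921661, 8080688, 2390307]], by
  rw [LF.bndG.2]; decide +kernel⟩

theorem b29 : ∃ b L, Nat.beq (bnd CL DL XL tw b d29.R L) (Nat.succ d29.c) = true := ⟨8, [.self 2, .self 8, .aff 129
  0, .cnw 0 0, .sum 0 1, .two 1 26598, .cell [(true, 0), (true, 5), (false, 4)], .base 0 38037 8, .two 1 20636,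
  .cell [(true, 0), (true, 12)], .sum 0 2, .cell [(true, 0), (true, 2)], .sum 0 2, .cell [(true, 0), (true, 2)],
  .sum 0 1, .cell [(true, 0), (true, 1)], .sum 0 3, .cell [(true, 0), (true, 3)], .sum 0 4, .cell [(true, 0),
  (true, 4)], .sum 0 3, .fin [5048040, 6588050, 9873197, 11297812, 839798, 7324626, 1180769, 16110681, 15455595,
  260920, 4834193, 12046952, 1217827, 15286446, 755618, 10865297, 16546137, 7362216, 13029129, 2802562, 8621716,
  7623870, 2295185, 15402616]], by
  rw [LF.bndG.2]; decide +kernel⟩

theorem b38 : ∃ b L, Nat.beq (bnd CL DL XL tw b d38.R L) (Nat.succ d38.c) = true := ⟨9, [.self 2, .self 4, .self 8,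
  .aff 341 0, .cell [(true, 0), (false, 3), (false, 1), (true, 2)], .base 0 79441 8, .two 32 45394, .two 2 18890,
  .cell [(true, 1), (true, 0), (true, 14), (false, 8), (true, 5), (true, 13), (false, 4)], .base 0 124758 6, .two 2
  23907, .cell [(true, 0), (true, 7)], .sum 0 2, .cell [(true, 19), (true, 18), (true, 17), (true, 13), (true, 24),
  (true, 7), (true, 9), (false, 23), (false, 6), (false, 15), (false, 1), (true, 8), (true, 25)], .base 0 100995 6,
  .cell [(true, 1), (true, 9)], .sum 0 2, .fin [4334809, 5292038, 15211873, 6075489, 13428307, 11793747, 8443076,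
  2379606, 10725256, 2587942, 12916559, 13761207, 14536584, 9590103, 3958651, 13485121, 3485871, 2513318, 14869031,
  1272065, 6976038, 13707455, 9396379, 16625038]], by
  rw [LF.bndG.2]; decide +kernel⟩

theorem b48 : ∃ b L, Nat.beq (bnd CL DL XL tw b d48.R L) (Nat.succ d48.c) = true := ⟨10, [.self 2, .self 4, .self
  8, .self 16, .self 32, .aff 513 0, .aff 273 0, .cell [(true, 0), (true, 4), (false, 6)], .base 0 79600 8, .two
  128 79600, .two 1 89203, .cell [(true, 0), (true, 12)], .sum 0 2, .two 2 24186, .cell [(true, 15), (true, 5),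
  (true, 0), (true, 11), (false, 12), (false, 10)], .base 0 8094 2, .cell [(true, 8), (true, 7), (true, 13), (true,
  5), (true, 11), (false, 23), (true, 1), (true, 24)], .base 0 96885 4, .two 2 12657, .cell [(true, 0), (true,
  25)], .sum 0 1, .cell [(true, 3), (true, 7)], .sum 0 4, .cell [(true, 33), (false, 37), (true, 3), (true, 0),
  (true, 14), (true, 26), (false, 36), (false, 28), (false, 24), (true, 8), (false, 11), (false, 1), (false, 29),
  (false, 5)], .sum 0 1, .cell [(true, 36), (false, 38), (true, 13), (false, 5), (true, 29), (true, 0), (false,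
  27), (true, 31), (true, 15), (false, 28), (false, 2), (false, 20), (true, 11)], .sum 0 2, .fin [59046, 16488567,
  2987190, 2943449, 11820533, 15943976, 9345340, 7462665, 11539991, 13918373, 1759641, 10332313, 4437401, 5500699,
  14311821, 518211, 13606185, 12368070, 12809255, 3795276, 2708109, 5805022, 5486804, 2370759]], by
  rw [LF.bndG.2]; decide +kernel⟩

theorem b58 : ∃ b L, Nat.beq (bnd CL DL XL tw b d58.R L) (Nat.succ d58.c) = true := ⟨11, [.self 2, .self 4, .self
  8, .self 16, .self 32, .aff 1057 0, .cell [(true, 0), (true, 5)], .base 0 25283 8, .cell [(true, 7), (true, 5),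
  (true, 4), (true, 2), (true, 1), (false, 11), (false, 10), (false, 0), (false, 13), (true, 12), (false, 6),
  (false, 14), (false, 3)], .sum 0 4, .cell [(true, 0), (true, 4)], .sum 0 8, .cell [(true, 0), (true, 8)], .sum 0
  4, .fin [11775541, 6787237, 1304071, 9921423, 10685679, 6750548, 3632711, 5658428, 1855627, 15399396, 7468635,
  4154193, 1228861, 16653294, 3787177, 6189314, 11938854, 2076383, 14262034, 9852187, 3548837, 1109619, 13579838,
  4576435]], by
  rw [LF.bndG.2]; decide +kernel⟩

theorem b67 : ∃ b L, Nat.beq (bnd CL DL XL tw b d67.R L) (Nat.succ d67.c) = true := ⟨13, [.self 2, .self 4, .self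
  8, .self 16, .self 32, .aff 4161 0, .cell [(true, 0), (true, 2), (false, 5), (false, 1), (false, 3), (false, 4)],
  .cnt 0 12, .cell [(true, 0), (true, 6), (false, 3), (false, 7), (false, 5), (true, 4)], .base 0 108948 17, .two 1
  87789, .cell [(true, 0), (true, 19)], .sum 0 6, .cell [(true, 1), (true, 6)], .sum 0 1, .fin [15025785, 414706,
  5652623, 1861391, 12926603, 16273542, 8850677, 1792876, 273352, 4773737, 6915838, 8656246, 1402911, 11311115,
  13996622, 6036406, 7826286, 5859766, 9752138, 1432265, 8628370, 2990244, 15500954, 10380602]], by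
  rw [LF.bndG.2]; decide +kernel⟩

theorem b77 : ∃ b L, Nat.beq (bnd CL DL XL tw b d77.R L) (Nat.succ d77.c) = true := ⟨7, [.self 2, .self 4, .self 8,
  .self 16, .self 32, .self 64, .cell [(false, 2), (true, 0), (true, 5), (true, 4), (true, 3), (false, 1)], .cnt 0
  256, .base 0 104401 8, .two 64 43118, .cell [(true, 0), (false, 3), (false, 15), (true, 5), (true, 6), (false,
  12), (false, 14), (true, 16)], .base 0 103375 8, .two 1 83716, .cell [(true, 0), (true, 9)], .sum 0 8, .fin
  [513430, 16187930, 1977691, 12419568, 811772, 6687875, 16062259, 15797520, 16112888, 15019704, 8346535, 11541357,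
  10097070, 7519365, 13103575, 12703844, 15799028, 1353488, 16418738, 4623478, 15057745, 4894355, 322559,
  9092100]], by
  rw [LF.bndG.2]; decide +kernel⟩

theorem b86 : ∃ b L, Nat.beq (bnd CL DL XL tw b d86.R L) (Nat.succ d86.c) = true := ⟨30, [.self 2, .self 8, .self
  16, .self 32, .aff 536870913 0, .aff 17043521 0, .aff 1049601 0, .aff 32769 0, .sum 3 1, .cell [(true, 2), (true,
  3), (true, 5), (true, 8), (false, 7), (false, 6)], .base 0 3931 16, .cell [(true, 18), (false, 24), (true, 15),
  (false, 11), (true, 14), (true, 17), (false, 13), (false, 12), (true, 8)], .sum 0 2, .cell [(true, 0), (true,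
  2)], .sum 0 5, .fin [6479629, 6852085, 3939395, 8398002, 6469860, 4478057, 3001161, 5049615, 4115375, 76918,
  15999483, 8663537, 509305, 1713826, 1864821, 12771225, 9529981, 5967269, 9687552, 8331926, 4517069, 3942530,
  8986047, 1162356]], by
  rw [LF.bndG.2]; decide +kernel⟩

theorem b94 : ∃ b L, Nat.beq (bnd CL DL XL tw b d94.R L) (Nat.succ d94.c) = true := ⟨10, [.self 2, .self 4, .self
  8, .self 16, .self 32, .self 64, .self 128, .self 256, .self 512, .cell [(false, 1), (true, 4), (false, 7),
  (false, 3), (false, 0), (true, 8), (false, 5), (false, 6)], .cnt 0 40, .cell [(true, 0), (true, 7), (true, 9),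
  (false, 10), (false, 4), (false, 8), (false, 5), (false, 6), (true, 3)], .base 0 32496 20, .two 2 45240, .cell
  [(true, 0), (true, 22)], .sum 0 4, .fin [7246400, 2192245, 12659850, 9211205, 15936175, 13240449, 9275286,
  7140853, 6283936, 16199823, 8087814, 15053057, 6814538, 7398586, 7303830, 4398727, 13437177, 5843918, 3495052,
  4228899, 2257557, 6921548, 531174, 6522523]], by
  rw [LF.bndG.2]; decide +kernel⟩

end Cfsg.Agent.H123.Cls.CoD
end

-- part: H123/Cls/LCt4
section
/-!
# `Co1` : bounds of the centralizers (helper123)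
-/

set_option autoImplicit false
set_option maxRecDepth 1000000

namespace Cfsg.Agent.H123.Cls.CoD

open Cfsg.Agent.H123.Cls Cfsg.Agent.MonsterX.LaneLab Cfsg.Agent.H264.TC.NoReal39

theorem b5 : ∃ b L, Nat.beq (bnd CL DL XL tw b d5.R L) (Nat.succ d5.c) = true := ⟨3, [.self 2, .aff 7 0, .base 0
  1903 2, .two 2 1903, .two 1 27415, .cell [(true, 4), (true, 3), (true, 2)], .base 0 1975 2, .two 1 76917, .cell
  [(true, 5), (true, 4), (true, 2), (false, 9), (false, 1), (false, 0)], .base 0 10301 3, .two 1 9107, .cell
  [(true, 0), (true, 4)], .sum 0 3, .cell [(true, 0), (true, 8)], .sum 0 3, .cell [(true, 0), (true, 3)], .sum 0 1,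
  .cell [(true, 16), (true, 13), (true, 12), (true, 11), (false, 24), (true, 7), (false, 17), (false, 22), (false,
  0), (false, 3), (false, 8), (false, 2), (false, 21), (false, 4), (false, 20)], .sum 0 3, .two 4 31093, .cell
  [(true, 0), (true, 10)], .sum 0 3, .cell [(true, 0), (true, 23)], .sum 0 3, .cell [(true, 0), (true, 3)], .sum 0
  1, .fin [1127017, 1932349, 566539, 10327238, 10842515, 5021872, 11915626, 1893890, 11208400, 8996958, 9701875,
  8736746, 15129856, 12502437, 9011905, 8188528, 243, 11174061, 5722094, 1213092, 668991, 13198157, 8976396,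
  9009248]], by
  rw [LF.bndG.2]; decide +kernel⟩

theorem b13 : ∃ b L, Nat.beq (bnd CL DL XL tw b d13.R L) (Nat.succ d13.c) = true := ⟨5, [.self 2, .aff 17 0, .aff
  31 0, .base 1 112139 1, .two 1 112139, .cell [(true, 3), (true, 1)], .base 0 48086 1, .two 1 48086, .cell [(true,
  0), (true, 5), (false, 3)], .base 0 127270 4, .two 8 127270, .two 1 128520, .cell [(true, 0), (true, 6)], .sum 0
  4, .cell [(true, 4), (true, 8)], .sum 0 4, .cell [(true, 10), (true, 19)], .sum 0 1, .cell [(true, 26), (true,
  20), (true, 16), (false, 7), (false, 14), (false, 17), (false, 2), (false, 4), (false, 23), (false, 5), (true,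
  0), (false, 10), (false, 8), (false, 22), (false, 12), (false, 13)], .sum 0 1, .cell [(true, 28), (true, 19),
  (true, 18), (true, 12), (false, 10), (false, 5), (true, 4), (true, 2), (false, 17), (false, 22), (true, 0),
  (false, 16), (false, 11), (false, 9)], .base 0 7949 4, .two 1 85800, .cell [(true, 0), (true, 14)], .sum 0 4,
  .fin [10240686, 10089385, 1732270, 1677580, 12935109, 8374741, 787782, 5615739, 14057228, 9463435, 4671422,
  5426262, 6470606, 516983, 5195448, 1156006, 10248409, 6825437, 12671390, 15837844, 545047, 6790361, 4320414,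
  15331218]], by
  rw [LF.bndG.2]; decide +kernel⟩

theorem b21 : ∃ b L, Nat.beq (bnd CL DL XL tw b d21.R L) (Nat.succ d21.c) = true := ⟨6, [.self 2, .aff 63 0, .aff
  21 0, .cell [(true, 0), (true, 2)], .base 0 16051 4, .two 8 16051, .two 4 69383, .two 1 85421, .cell [(true, 7),
  (true, 1), (true, 6), (true, 3)], .base 0 75463 2, .cell [(true, 12), (true, 5), (true, 6), (false, 8), (true,
  0), (false, 11)], .base 0 17687 3, .two 2 126103, .two 1 83296, .cell [(true, 0), (true, 5)], .sum 0 1, .cell
  [(true, 11), (true, 3), (false, 17), (false, 4), (true, 21), (false, 12)], .base 0 16789 1, .cell [(true, 16),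
  (false, 19), (false, 0), (false, 18), (true, 10), (false, 17), (false, 8), (false, 7), (true, 23), (false, 2),
  (false, 6), (false, 11), (false, 15)], .sum 0 1, .cell [(true, 17), (true, 6), (true, 12), (true, 19), (true,
  25), (true, 13), (true, 4), (true, 18), (true, 0)], .base 0 6815 4, .two 1 75008, .cell [(true, 0), (true, 7)],
  .sum 0 4, .cell [(true, 0), (true, 4)], .sum 0 2, .cell [(true, 0), (true, 2)], .sum 0 2, .fin [3538524, 9136689,
  9327804, 16224770, 2435678, 6761139, 3033350, 14578443, 14850569, 16398257, 7987134, 15039643, 420079, 6010897,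
  5921191, 349610, 5932163, 192999, 1767786, 9047992, 4995281, 2227811, 2490839, 4738749]], by
  rw [LF.bndG.2]; decide +kernel⟩

theorem b31 : ∃ b L, Nat.beq (bnd CL DL XL tw b d31.R L) (Nat.succ d31.c) = true := ⟨8, [.self 2, .self 4, .aff 129
  0, .cnw 0 3, .cell [(true, 0), (false, 3)], .base 0 30859 7, .two 32 72238, .two 4 91525, .two 1 6691, .cell
  [(false, 14), (true, 7), (true, 6), (false, 8), (false, 5), (false, 3), (false, 4), (false, 13), (false, 9),
  (false, 2), (false, 0), (false, 1)], .sum 0 7, .cell [(true, 0), (true, 7)], .sum 0 5, .cell [(true, 0), (true,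
  5)], .sum 0 5, .fin [3104074, 1865996, 10198248, 11197112, 1317286, 10468729, 5604283, 2119230, 7137132, 3409469,
  15748838, 12525699, 12676235, 6519134, 12030959, 6852948, 13085060, 9799498, 12596313, 1461100, 7351967,
  15458411, 16204273, 16252506]], by
  rw [LF.bndG.2]; decide +kernel⟩

theorem b41 : ∃ b L, Nat.beq (bnd CL DL XL tw b d41.R L) (Nat.succ d41.c) = true := ⟨11, [.self 4, .self 8, .self
  16, .aff 1025 0, .cnt 0 0, .cnw 1 0, .cell [(true, 1), (false, 0), (false, 4), (false, 3), (true, 5)], .cnt 0 36,
  .cell [(true, 3), (true, 0), (true, 6), (false, 5)], .base 0 123457 10, .two 1 71720, .cell [(true, 0), (true,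
  11)], .sum 0 10, .cell [(true, 11), (true, 23)], .sum 0 1, .cell [(true, 0), (true, 1)], .sum 0 1, .cell [(true,
  1), (true, 4)], .sum 0 1, .cell [(true, 0), (true, 5)], .sum 0 1, .fin [6775421, 5265539, 8588146, 11719895,
  4531768, 13651771, 8677621, 871995, 6439222, 8047984, 13790257, 2884116, 7953352, 3934325, 5897948, 10933790,
  9602168, 16047582, 7224864, 13591980, 9348025, 8783355, 15709437, 11055602]], by
  rw [LF.bndG.2]; decide +kernel⟩

theorem b50 : ∃ b L, Nat.beq (bnd CL DL XL tw b d50.R L) (Nat.succ d50.c) = true := ⟨12, [.self 2, .self 4, .self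
  8, .self 16, .aff 2049 0, .cnw 0 1, .cell [(true, 0), (true, 5), (true, 4)], .base 0 89716 9, .two 32 28802, .two
  4 116676, .two 1 76084, .cell [(true, 17), (false, 18), (true, 11), (true, 5), (true, 7), (false, 8), (false, 9),
  (false, 10), (false, 4), (false, 3), (true, 15), (false, 6), (false, 13)], .sum 0 2, .cell [(true, 14), (true,
  13), (true, 12), (true, 7), (false, 8), (false, 6), (true, 10), (true, 19), (false, 20), (true, 21), (false, 11),
  (false, 1), (false, 0), (false, 5), (false, 4), (false, 3)], .sum 0 6, .cell [(false, 25), (true, 4), (true, 2),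
  (true, 0), (false, 7), (true, 21), (false, 18), (true, 14), (true, 13), (true, 20), (false, 27), (true, 16),
  (false, 17)], .sum 0 7, .fin [10762556, 13998206, 11319293, 13839892, 13524870, 8384905, 10168084, 8238042,
  3055318, 1465847, 10569803, 5574838, 2717334, 4892234, 11150282, 12495244, 997295, 15917411, 238483, 8602265,
  9806029, 9127694, 7456589, 2350487]], by
  rw [LF.bndG.2]; decide +kernel⟩

theorem b60 : ∃ b L, Nat.beq (bnd CL DL XL tw b d60.R L) (Nat.succ d60.c) = true := ⟨13, [.self 2, .self 4, .aff
  4681 0, .cell [(true, 0), (false, 2), (false, 1)], .base 0 12324 8, .two 128 12324, .two 4 107154, .cell [(true,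
  1), (true, 0), (false, 8), (false, 5), (true, 12), (true, 2), (false, 3)], .base 0 126645 10, .two 32 78280,
  .cell [(true, 0), (true, 11)], .sum 0 2, .cell [(true, 0), (true, 14)], .sum 0 2, .cell [(true, 0), (true, 17)],
  .sum 0 2, .fin [9880346, 15399993, 10441648, 12710834, 9435668, 16204190, 13783197, 13890525, 12235820, 8580555,
  28995, 1478627, 626542, 11236914, 6672153, 2493791, 5751232, 6715568, 2753326, 9186621, 5583076, 15550406,
  7189999, 14938416]], by
  rw [LF.bndG.2]; decide +kernel⟩

theorem b69 : ∃ b L, Nat.beq (bnd CL DL XL tw b d69.R L) (Nat.succ d69.c) = true := ⟨20, [.self 2, .self 4, .self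
  8, .self 16, .self 32, .self 64, .self 256, .aff 524289 0, .aff 69905 0, .sum 1 1, .cell [(true, 6), (true, 3),
  (false, 0), (false, 1), (false, 9), (false, 7), (false, 8), (false, 5)], .base 0 48197 16, .cell [(true, 23),
  (true, 20), (false, 21), (true, 13), (true, 11), (false, 1), (false, 12), (true, 2), (false, 22), (true, 17),
  (true, 25), (false, 14)], .sum 0 4, .cell [(true, 0), (true, 4)], .sum 0 1, .cell [(true, 4), (true, 6)], .sum 0
  2, .fin [15281477, 5993957, 3824034, 15085840, 4645807, 11264082, 9770876, 4292776, 2113284, 10920668, 12004176,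
  11468885, 9498467, 1043053, 2629791, 9532495, 15292957, 169097, 4630353, 15530918, 13191201, 1030860, 15930530,
  12600448]], by
  rw [LF.bndG.2]; decide +kernel⟩

theorem b79 : ∃ b L, Nat.beq (bnd CL DL XL tw b d79.R L) (Nat.succ d79.c) = true := ⟨24, [.self 2, .self 4, .self
  8, .self 32, .self 128, .self 256, .aff 8388609 0, .aff 1118481 0, .aff 65793 0, .sum 2 1, .cell [(true, 1),
  (true, 9), (true, 6), (true, 8)], .base 0 15877 10, .two 8 73892, .cell [(true, 9), (true, 21), (false, 17),
  (false, 12), (true, 2), (false, 10), (false, 8), (false, 5), (false, 4), (false, 20), (true, 19), (false, 14),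
  (false, 0)], .sum 0 2, .cell [(true, 10), (true, 24), (true, 5), (false, 13), (false, 22), (true, 8), (false,
  11), (false, 9), (false, 23), (true, 20), (false, 19), (true, 0), (false, 21), (false, 1)], .sum 0 5, .cell
  [(true, 0), (true, 8)], .sum 0 5, .cell [(true, 1), (true, 11)], .sum 0 1, .fin [9581452, 2650216, 41237,
  15689792, 6612867, 14697580, 4085125, 1921405, 11817257, 9220189, 10688427, 12610291, 12399887, 14708777,
  8686913, 13558729, 13253753, 13261371, 8197421, 4089992, 1941162, 8356929, 11445967, 4309351]], by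
  rw [LF.bndG.2]; decide +kernel⟩

theorem b88 : ∃ b L, Nat.beq (bnd CL DL XL tw b d88.R L) (Nat.succ d88.c) = true := ⟨30, [.self 2, .self 4, .self
  16, .self 32, .self 128, .self 256, .self 512, .aff 536870913 0, .aff 1048577 0, .sum 1 1, .two 1 95376, .cell
  [(true, 0), (false, 5), (true, 4), (true, 8), (false, 7), (false, 6)], .base 0 29170 15, .two 1024 130433, .two 1
  84816, .cell [(true, 1), (true, 0), (false, 9), (true, 7), (false, 27), (true, 22), (false, 25), (true, 28),
  (false, 20)], .sum 0 6, .cell [(true, 34), (false, 30), (true, 31), (true, 32), (true, 22), (true, 12), (true,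
  5), (true, 4), (false, 26), (true, 17), (false, 1), (true, 21)], .sum 0 2, .fin [4084735, 15813939, 14159425,
  3501543, 11573422, 10264766, 13752464, 2694383, 12678364, 14853209, 4342744, 11794422, 14695664, 14218354,
  3500320, 11077747, 8652944, 2875337, 7554826, 12618013, 2936541, 13442896, 14877180, 446705]], by
  rw [LF.bndG.2]; decide +kernel⟩

theorem b96 : ∃ b L, Nat.beq (bnd CL DL XL tw b d96.R L) (Nat.succ d96.c) = true := ⟨10, [.self 2, .self 4, .self
  8, .self 16, .self 32, .self 128, .self 512, .cell [(false, 2), (true, 1), (false, 3), (true, 0), (true, 5),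
  (true, 4), (false, 6)], .base 0 15991 24, .fin [1000366, 5737344, 11050842, 13868766, 15678693, 11767307,
  14207235, 9056682, 6952585, 13124919, 11926166, 6852100, 6106905, 2511965, 5353786, 13700177, 16402138, 7337449,
  7134960, 7260147, 7394440, 8759869, 11665983, 5513882]], by
  rw [LF.bndG.2]; decide +kernel⟩

end Cfsg.Agent.H123.Cls.CoD
end
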