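import Cfsg.Agent.H68.CoInst_m3
import Cfsg.Agent.H123.Cls.LFast
import Cfsg.Agent.H68.CoMdl
import Cfsg.Agent.Prune
set_option linter.all false

section
prune_inst 0x7f00000000000000000000000000000000000000000000000000000000000000000000000000000000000000000000000000000000000000000000000000000000000000000000000000000000000000003fffffffffffffffffffffffffffbeffbdffffffff

-- part: H123/Cls/LCt3_mg
section
set_option linter.all false
open scoped Cfsg.Agent.FastGrp

-- part: H123/Cls/LCt3
section
/-!
# `Co1` : bounds of the centralizers (helper123)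
-/

set_option autoImplicit false
set_option maxRecDepth 1000000

namespace Cfsg.Agent.H123.Cls.CoD

open Cfsg.Agent.H123.Cls Cfsg.Agent.MonsterX.LaneLab Cfsg.Agent.H264.TC.NoReal39

theorem b4 : ∃ b L, Nat.beq (bnd CL DL XL tw b d4.R L) (Nat.succ d4.c) = true := ⟨2, [.self 2, .base 0 102284 3,
  .two 4 102284, .two 2 89134, .two 1 70934, .cell [(true, 2), (true, 1), (true, 0), (true, 6)], .base 0 85108 2,
  .two 2 85108, .cell [(true, 6), (true, 4), (true, 10), (true, 8)], .base 0 70678 1, .two 1 70678, .cell [(true,
  9), (true, 3), (false, 10), (false, 7), (true, 4), (false, 13), (false, 1)], .base 0 97668 3, .two 4 97668, .two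
  2 37687, .cell [(true, 17), (true, 16), (true, 3), (true, 2), (false, 18), (true, 11), (true, 10), (false, 7),
  (false, 4), (false, 19), (false, 15), (false, 1), (false, 6)], .sum 0 1, .cell [(true, 2), (false, 19), (false,
  12), (true, 4), (true, 18), (true, 9), (false, 0), (true, 20), (false, 21)], .base 0 31062 2, .cell [(true, 19),
  (true, 18), (true, 24), (true, 14), (false, 9), (false, 1), (true, 8), (true, 7), (false, 0)], .base 0 44666 3,
  .two 4 44666, .cell [(true, 0), (true, 9)], .sum 0 3, .cell [(true, 0), (true, 3)], .sum 0 1, .cell [(true, 0),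
  (true, 1)], .sum 0 1, .cell [(true, 0), (true, 1)], .sum 0 1, .cell [(true, 0), (true, 1)], .sum 0 1, .cell
  [(true, 0), (true, 1)], .sum 0 1, .cell [(true, 0), (true, 5)], .sum 0 1, .fin [5293543, 16658724, 9918738,
  330154, 58953, 13884148, 13848541, 1694418, 13932969, 9675014, 15987426, 15160051, 6823150, 6856876, 14864589,
  8025869, 1442471, 14626700, 7192680, 14383474, 8408054, 10079826, 2202296, 14686277]], by
  rw [LF.bndG.2]; decide +kernel⟩

theorem b12 : ∃ b L, Nat.beq (bnd CL DL XL tw b d12.R L) (Nat.succ d12.c) = true := ⟨4, [.self 2, .aff 9 0, .base 0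
  109964 1, .two 1 109964, .cell [(true, 2), (true, 0)], .base 0 73748 1, .two 1 73748, .cell [(true, 0), (true,
  6)], .base 0 16524 2, .two 2 16524, .two 5 93269, .cell [(true, 8), (true, 1), (true, 11), (true, 2), (false,
  0)], .base 0 84881 2, .two 2 84881, .two 1 70956, .cell [(true, 0), (true, 4)], .sum 0 2, .cell [(true, 2),
  (true, 4)], .sum 0 2, .cell [(true, 6), (false, 20), (true, 22), (false, 17), (true, 4), (true, 1), (false, 14),
  (false, 0), (false, 9), (true, 13)], .base 0 39570 1, .cell [(false, 3), (true, 6), (false, 22), (false, 16),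
  (false, 10), (true, 5), (false, 0), (false, 19), (true, 24), (false, 15), (true, 2), (false, 9)], .sum 0 1, .two
  1 111915, .cell [(false, 27), (true, 19), (true, 18), (true, 25), (true, 9), (true, 5), (true, 13), (true, 8),
  (true, 22), (true, 14), (false, 6), (false, 3), (false, 1), (false, 0)], .base 0 38796 3, .two 4 38796, .cell
  [(true, 0), (true, 7)], .sum 0 3, .two 2 116515, .cell [(true, 0), (true, 12)], .sum 0 3, .cell [(true, 0),
  (true, 8)], .sum 0 3, .fin [4940141, 4010367, 15179921, 13981503, 1503987, 15480771, 11342282, 13004173,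
  12788489, 10728474, 2043001, 2873001, 13718650, 1454307, 15441276, 14200267, 1994784, 5631921, 3765499, 7787034,
  5885447, 12637212, 4253559, 3975259]], by
  rw [LF.bndG.2]; decide +kernel⟩

theorem b20 : ∃ b L, Nat.beq (bnd CL DL XL tw b d20.R L) (Nat.succ d20.c) = true := ⟨6, [.self 2, .self 4, .aff 63
  0, .aff 21 0, .cell [(true, 1), (true, 3), (false, 2), (false, 0)], .base 0 2054 5, .two 16 2054, .two 8 88692,
  .two 4 89511, .two 2 48072, .cell [(true, 8), (true, 7), (false, 5), (true, 4), (false, 6), (false, 13), (false,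
  12), (false, 1), (false, 0), (false, 11)], .sum 0 2, .two 2 62608, .cell [(true, 13), (true, 7), (true, 5),
  (true, 11), (true, 9)], .base 0 48509 1, .cell [(true, 8), (true, 2), (false, 19), (true, 12), (true, 17),
  (false, 14)], .base 0 38338 3, .cell [(true, 18), (true, 16), (true, 14), (false, 17), (false, 15), (true, 4),
  (false, 1), (true, 23), (false, 22), (false, 2), (false, 0), (false, 21)], .sum 0 1, .cell [(true, 13), (true,
  24), (false, 25), (true, 10), (true, 20), (true, 2), (true, 6)], .base 0 126539 4, .two 1 104943, .cell [(true,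
  0), (true, 17)], .sum 0 4, .cell [(true, 0), (true, 4)], .sum 0 2, .cell [(true, 0), (true, 7)], .sum 0 2, .fin
  [13607924, 10307889, 4134438, 8638461, 1078278, 5553643, 5642231, 10903319, 6371909, 6404104, 10392218, 9809297,
  11822931, 14847812, 9769861, 2249050, 8287436, 6824938, 15074463, 16158345, 13885884, 2360283, 5148412,
  7505100]], by
  rw [LF.bndG.2]; decide +kernel⟩

theorem b30 : ∃ b L, Nat.beq (bnd CL DL XL tw b d30.R L) (Nat.succ d30.c) = true := ⟨8, [.self 2, .self 8, .aff 129
  0, .cnt 0 8, .cell [(true, 0), (true, 3)], .base 0 75210 6, .two 16 31221, .two 4 26141, .two 2 3422, .two 1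
  7452, .cell [(true, 3), (false, 6), (false, 4), (true, 14), (false, 13), (true, 9), (true, 7), (false, 2),
  (false, 1)], .base 0 31057 6, .cell [(true, 7), (false, 13), (false, 15), (true, 4), (false, 21), (false, 12),
  (false, 0), (true, 5), (true, 2)], .base 0 90540 6, .cell [(true, 0), (true, 13)], .sum 0 4, .cell [(true, 2),
  (true, 11)], .sum 0 2, .fin [7672438, 15990086, 15126243, 5365856, 15213600, 4423276, 3341821, 5335025, 1251134,
  1607466, 13772602, 2723475, 485329, 2551674, 2253588, 3320628, 11882281, 15859018, 10885533, 13032943, 9619869,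
  10018723, 8927640, 15896424]], by
  rw [LF.bndG.2]; decide +kernel⟩

theorem b40 : ∃ b L, Nat.beq (bnd CL DL XL tw b d40.R L) (Nat.succ d40.c) = true := ⟨10, [.self 8, .self 16, .aff
  513 0, .aff 33 0, .cnw 1 2, .cell [(true, 0), (true, 4), (false, 1)], .base 0 120459 8, .two 128 120459, .two 1
  15245, .cell [(true, 0), (true, 10)], .sum 0 8, .cell [(true, 0), (true, 8)], .sum 0 4, .cell [(true, 14), (true,
  27)], .sum 0 1, .cell [(true, 28), (true, 27), (true, 12), (true, 11), (false, 25), (true, 5), (true, 0)], .sum 0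
  1, .cell [(true, 29), (false, 32), (true, 15), (true, 5), (false, 27), (false, 11), (false, 12), (false, 19),
  (true, 0)], .sum 0 1, .cell [(true, 0), (true, 3)], .sum 0 1, .fin [12457278, 3361535, 11287332, 12058193,
  3206454, 13614472, 9814589, 11084760, 15364045, 1381606, 109148, 10513093, 7959022, 15546115, 15841615, 12307010,
  3644404, 10150196, 15924628, 1382494, 1495683, 6468870, 14541823, 13002256]], by
  rw [LF.bndG.2]; decide +kernel⟩

theorem b49 : ∃ b L, Nat.beq (bnd CL DL XL tw b d49.R L) (Nat.succ d49.c) = true := ⟨10, [.self 2, .self 4, .self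
  8, .self 32, .aff 513 0, .aff 273 0, .cell [(true, 0), (true, 4), (false, 3), (true, 5)], .base 0 125002 8, .two
  1 100076, .cell [(true, 0), (true, 9)], .sum 0 2, .cell [(true, 0), (true, 2)], .sum 0 2, .cell [(true, 0),
  (true, 2)], .sum 0 6, .cell [(true, 13), (true, 24)], .sum 0 1, .cell [(true, 1), (true, 2)], .sum 0 1, .cell
  [(true, 0), (true, 1)], .sum 0 1, .cell [(false, 33), (true, 34), (true, 27), (true, 25), (true, 23), (false,
  10), (true, 13), (true, 24), (false, 21), (true, 16), (false, 14), (true, 32), (false, 7), (false, 2)], .sum 0 1,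
  .cell [(true, 34), (false, 6), (true, 27), (true, 24), (false, 9), (true, 22), (false, 15), (false, 18), (true,
  4), (false, 28), (true, 36), (true, 33), (true, 11), (true, 35)], .sum 0 1, .cell [(true, 0), (true, 3)], .sum 0
  1, .fin [4151865, 10774872, 15937469, 12907258, 14121550, 6059086, 13512308, 3884468, 12158605, 3696846, 297584,
  963985, 9488276, 122893, 7572829, 15034343, 11065546, 5545844, 12949897, 14099648, 13173053, 2425533, 2124355,
  16515129]], by
  rw [LF.bndG.2]; decide +kernel⟩

theorem b59 : ∃ b L, Nat.beq (bnd CL DL XL tw b d59.R L) (Nat.succ d59.c) = true := ⟨11, [.self 2, .self 4, .self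
  8, .self 128, .aff 1057 0, .cell [(true, 0), (true, 2), (true, 4), (true, 3)], .cnt 0 4, .cell [(true, 0),
  (false, 4), (true, 6), (true, 3), (false, 5)], .base 0 110539 15, .two 1 76967, .cell [(true, 0), (true, 16)],
  .sum 0 4, .cell [(true, 0), (true, 4)], .sum 0 3, .cell [(true, 0), (true, 3)], .sum 0 1, .cell [(true, 0),
  (true, 1)], .sum 0 1, .fin [3892881, 3232058, 15805755, 4771671, 13097302, 4547934, 13392101, 7054738, 12306824,
  8600585, 4263771, 8439400, 2292620, 15621053, 2685018, 7475830, 14645838, 16265964, 11627694, 7223101, 14263135,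
  11759255, 7114865, 11556136]], by
  rw [LF.bndG.2]; decide +kernel⟩

theorem b68 : ∃ b L, Nat.beq (bnd CL DL XL tw b d68.R L) (Nat.succ d68.c) = true := ⟨20, [.self 2, .self 4, .self
  8, .self 16, .self 64, .self 256, .aff 524289 0, .aff 69905 0, .sum 1 1, .cell [(true, 1), (true, 7), (true, 5),
  (false, 4), (false, 8)], .base 0 44593 16, .two 32768 44593, .two 8192 30746, .two 512 26319, .cell [(true, 14),
  (true, 13), (true, 11), (true, 9), (true, 7), (true, 24), (true, 6), (false, 20), (false, 25), (false, 10),
  (false, 18), (true, 27), (false, 16)], .sum 0 3, .cell [(true, 4), (true, 22), (true, 32), (true, 29), (false,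
  27), (false, 19), (true, 20), (true, 12), (false, 31), (false, 21), (false, 2)], .sum 0 2, .cell [(true, 9),
  (true, 8), (true, 21), (true, 35), (true, 12), (true, 33), (false, 24)], .sum 0 2, .fin [9084424, 10636657,
  11641248, 3185928, 11550427, 16271927, 6275112, 10419405, 9262674, 1758180, 14410092, 5930872, 3044889, 6641582,
  5038889, 12986943, 8313581, 7219044, 10489239, 10031435, 14179509, 11701347, 1468815, 4145259]], by
  rw [LF.bndG.2]; decide +kernel⟩

theorem b78 : ∃ b L, Nat.beq (bnd CL DL XL tw b d78.R L) (Nat.succ d78.c) = true := ⟨24, [.self 2, .self 4, .self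
  8, .self 16, .self 64, .self 128, .aff 8388609 0, .aff 65793 0, .sum 1 1, .cell [(true, 1), (true, 5), (false,
  7), (false, 8), (true, 6), (false, 3)], .cnt 0 16, .cell [(true, 3), (true, 0), (true, 6), (true, 10), (false,
  9)], .base 0 66443 16, .two 1 2216, .sum 18 1, .cell [(true, 1), (true, 19)], .sum 0 2, .cell [(true, 0), (true,
  2)], .sum 0 3, .cell [(true, 0), (true, 3)], .sum 0 1, .fin [1772300, 799150, 2167137, 7121827, 6903632,
  12778504, 371113, 5906292, 2101851, 10352890, 3755730, 12375312, 15198076, 3932567, 11220387, 1126559, 5438837,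
  9519356, 5665204, 11899349, 2541283, 7424347, 12424787, 2260731]], by
  rw [LF.bndG.2]; decide +kernel⟩

theorem b87 : ∃ b L, Nat.beq (bnd CL DL XL tw b d87.R L) (Nat.succ d87.c) = true := ⟨25, [.self 2, .self 4, .self
  16, .self 128, .self 256, .aff 17043521 0, .cell [(true, 0), (true, 5), (true, 4), (true, 2)], .base 0 12257 16,
  .cell [(true, 14), (true, 12), (true, 9), (true, 21), (true, 18), (true, 3), (true, 2), (true, 20), (false, 6),
  (false, 1), (true, 8), (true, 22), (false, 10)], .sum 0 2, .cell [(true, 0), (true, 2)], .sum 0 4, .two 1 110199,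
  .cell [(true, 0), (true, 8)], .sum 0 2, .fin [11490679, 6477758, 7871792, 12865596, 3024675, 15664475, 4695988,
  13097322, 14785698, 3562199, 2638429, 7569820, 3515884, 11136202, 6041078, 8909179, 1006011, 15086516, 8262956,
  12657945, 7387860, 7324328, 12935367, 3160467]], by
  rw [LF.bndG.2]; decide +kernel⟩

theorem b95 : ∃ b L, Nat.beq (bnd CL DL XL tw b d95.R L) (Nat.succ d95.c) = true := ⟨10, [.self 2, .self 4, .self
  8, .self 16, .self 64, .self 128, .self 512, .cell [(true, 6), (false, 2), (false, 0), (false, 4), (false, 1),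
  (true, 5), (false, 3)], .cnt 0 104, .cell [(true, 0), (true, 8)], .base 0 34059 24, .fin [3646703, 8869313,
  12704488, 14000539, 6988120, 3007922, 7135835, 15444347, 16050903, 4655565, 4530587, 10282671, 13531761, 6824920,
  7717720, 12983732, 10643883, 13358499, 926270, 7500123, 8431399, 16123151, 8047640, 10593987]], by
  rw [LF.bndG.2]; decide +kernel⟩

end Cfsg.Agent.H123.Cls.CoD
end

-- part: H123/Cls/LCt6
section
/-!
# `Co1` : bounds of the centralizers (helper123)
-/

set_option autoImplicit false
set_option maxRecDepth 1000000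

namespace Cfsg.Agent.H123.Cls.CoD

open Cfsg.Agent.H123.Cls Cfsg.Agent.MonsterX.LaneLab Cfsg.Agent.H264.TC.NoReal39

theorem b7 : ∃ b L, Nat.beq (bnd CL DL XL tw b d7.R L) (Nat.succ d7.c) = true := ⟨4, [.self 2, .aff 9 0, .aff 5 0,
  .aff 15 0, .cell [(false, 3), (false, 0)], .base 0 118656 4, .two 8 118656, .two 4 108359, .two 1 79943, .cell
  [(true, 9), (false, 6), (false, 5), (false, 2), (false, 1), (false, 10)], .sum 0 1, .cell [(true, 11), (true, 4),
  (true, 3)], .base 0 109930 1, .two 1 109930, .cell [(true, 6), (false, 1), (false, 11), (false, 3), (false, 9),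
  (true, 8), (false, 16), (false, 7), (false, 0)], .base 0 46215 4, .two 1 47187, .cell [(true, 17), (true, 3),
  (false, 7), (true, 18), (false, 1), (true, 15), (false, 16), (false, 14), (false, 4), (true, 9), (false, 0)],
  .sum 0 2, .cell [(true, 14), (true, 22), (false, 10), (false, 6), (true, 20), (true, 12), (true, 0), (false, 25),
  (false, 23)], .base 0 32120 3, .two 2 118469, .cell [(true, 0), (true, 7)], .sum 0 3, .cell [(true, 0), (true,
  3)], .sum 0 3, .cell [(true, 1), (true, 12)], .sum 0 3, .fin [4901968, 15479835, 10225664, 8602199, 3265682,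
  2248626, 6152050, 13566248, 7613485, 15297328, 12457392, 15284829, 608980, 355143, 3892760, 7638397, 4193473,
  13245829, 5752383, 10188375, 8035463, 8614241, 5348417, 4601014]], by
  rw [LF.bndG.2]; decide +kernel⟩

theorem b15 : ∃ b L, Nat.beq (bnd CL DL XL tw b d15.R L) (Nat.succ d15.c) = true := ⟨2, [.self 2, .base 0 26492 4,
  .two 8 26492, .two 4 8229, .two 1 29274, .cell [(true, 2), (true, 1), (true, 4), (true, 7), (false, 3)], .cnt 0
  9, .cell [(true, 3), (true, 2), (true, 0), (false, 9)], .base 0 110415 4, .two 1 20491, .cell [(true, 0), (true,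
  5)], .sum 0 4, .cell [(true, 0), (true, 4)], .sum 0 4, .cell [(true, 24), (true, 23), (true, 13), (true, 12),
  (false, 11), (false, 14), (false, 7), (false, 1), (false, 22), (false, 6), (false, 21), (false, 5), (false, 3),
  (true, 8), (false, 2)], .cnt 0 0, .cell [(true, 0), (true, 25), (true, 24), (true, 15), (false, 23), (true, 10),
  (false, 5), (true, 8), (false, 9), (false, 26), (false, 3), (false, 13), (true, 27)], .base 0 122212 4, .two 1
  26537, .cell [(true, 0), (true, 24)], .sum 0 4, .fin [7078934, 9087894, 7226580, 519044, 9610336, 13709099,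
  2250637, 5538303, 14309252, 10508112, 14477984, 5631792, 11597423, 13955283, 4232262, 10978653, 14259624,
  5079429, 2322264, 16041677, 2244864, 12622257, 15773743, 1444937]], by
  rw [LF.bndG.2]; decide +kernel⟩

theorem b23 : ∃ b L, Nat.beq (bnd CL DL XL tw b d23.R L) (Nat.succ d23.c) = true := ⟨4, [.self 2, .aff 9 0, .base 1
  23816 4, .two 8 23816, .two 4 1300, .two 2 85989, .cell [(true, 2), (true, 1), (false, 8), (false, 7)], .base 0
  112590 4, .two 8 112590, .two 1 41231, .cell [(true, 9), (true, 0), (false, 15), (true, 12), (false, 1), (true,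
  3)], .base 0 83378 4, .two 1 72180, .cell [(true, 0), (false, 18), (false, 11), (true, 8), (false, 3), (false,
  19), (false, 17), (false, 10), (true, 16), (true, 9)], .base 0 107144 4, .cell [(true, 0), (true, 17)], .sum 0 2,
  .cell [(true, 5), (true, 7)], .sum 0 2, .cell [(true, 31), (true, 22), (true, 0), (false, 30), (false, 29),
  (false, 9), (true, 21), (false, 15), (false, 4), (true, 1), (false, 14), (false, 3)], .sum 0 2, .cell [(true,
  27), (false, 33), (true, 12), (true, 11), (false, 10), (false, 3), (true, 15), (true, 16), (true, 23), (true,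
  35), (true, 32)], .sum 0 2, .fin [11676736, 3635053, 10698093, 5390976, 6182001, 12589923, 10767643, 2367504,
  10954546, 15840826, 7329928, 14515681, 924334, 1949763, 12347219, 9815391, 14887697, 6296972, 4787077, 6710904,
  9747391, 1579958, 3747200, 5156508]], by
  rw [LF.bndG.2]; decide +kernel⟩

theorem b34 : ∃ b L, Nat.beq (bnd CL DL XL tw b d34.R L) (Nat.succ d34.c) = true := ⟨7, [.self 2, .self 4, .self 8,
  .self 16, .aff 65 0, .cell [(true, 0), (true, 4)], .base 0 89664 3, .two 1 8183, .cell [(true, 0), (true, 7),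
  (false, 3), (true, 9), (true, 8), (true, 6)], .sum 0 1, .cell [(true, 6), (true, 2), (true, 5), (true, 4)], .base
  0 67279 1, .two 1 67279, .cell [(true, 0), (true, 4)], .sum 0 1, .cell [(true, 7), (true, 2), (true, 10), (true,
  9), (false, 16), (true, 5), (true, 15)], .base 0 67180 6, .two 2 78698, .two 1 18077, .cell [(true, 0), (true,
  8)], .sum 0 6, .cell [(true, 8), (false, 26), (false, 31), (true, 12), (false, 25), (false, 0), (false, 24),
  (true, 9), (false, 3), (true, 11)], .sum 0 6, .fin [624148, 16150853, 2997219, 12751792, 1409909, 14869879,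
  2390695, 9674510, 8621575, 13055072, 14777591, 6864119, 13701062, 14499490, 7488166, 9035440, 3463429, 8301404,
  6340429, 197440, 12963037, 14650715, 10057549, 3128962]], by
  rw [LF.bndG.2]; decide +kernel⟩

theorem b43 : ∃ b L, Nat.beq (bnd CL DL XL tw b d43.R L) (Nat.succ d43.c) = true := ⟨10, [.self 2, .self 4, .self
  8, .self 16, .aff 585 0, .aff 273 0, .cell [(true, 0), (true, 5)], .base 0 11795 6, .two 32 11795, .two 4 45182,
  .two 2 112459, .cell [(true, 2), (true, 1), (true, 11), (false, 13), (false, 6), (false, 4)], .base 0 81331 7,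
  .two 16 17580, .two 2 81132, .cell [(true, 0), (true, 9)], .sum 0 3, .cell [(true, 5), (true, 26), (false, 28),
  (false, 21), (false, 6), (true, 29), (true, 9), (false, 0), (false, 22)], .base 0 103436 5, .cell [(true, 20),
  (true, 32), (false, 34), (true, 35), (true, 27), (true, 16), (false, 33), (false, 12), (true, 3)], .sum 0 3, .fin
  [11917323, 14671649, 16152226, 12663149, 12416761, 12166186, 1433454, 13947125, 7219009, 5033550, 16007669,
  15883110, 8988302, 15230608, 9481465, 9686505, 6105545, 14133758, 13495374, 3536573, 4476155, 1711374, 817658,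
  5978748]], by
  rw [LF.bndG.2]; decide +kernel⟩

theorem b52 : ∃ b L, Nat.beq (bnd CL DL XL tw b d52.R L) (Nat.succ d52.c) = true := ⟨11, [.self 2, .self 4, .self
  8, .self 16, .self 32, .aff 513 0, .aff 1365 0, .cell [(true, 0), (true, 3), (false, 4), (false, 5), (true, 6)],
  .base 0 85673 10, .two 1 91013, .cell [(true, 0), (true, 13)], .sum 0 1, .cell [(true, 1), (true, 4)], .sum 0 2,
  .cell [(true, 15), (true, 3), (false, 13), (false, 9), (true, 22), (false, 20), (false, 1), (true, 23), (false,
  10), (false, 14), (false, 0), (false, 21), (false, 12)], .sum 0 2, .cell [(true, 0), (true, 2)], .sum 0 1, .two 1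
  1789, .cell [(true, 27), (true, 29), (true, 20), (true, 17), (false, 3), (true, 18), (false, 14), (true, 25),
  (false, 26), (false, 6), (false, 4), (false, 9), (true, 16), (false, 1), (false, 0)], .sum 0 4, .cell [(true, 0),
  (true, 15)], .sum 0 2, .cell [(true, 0), (true, 10)], .sum 0 1, .cell [(true, 2), (true, 15)], .sum 0 1, .fin
  [8661226, 11306161, 8461198, 4900552, 5615638, 8328745, 14520460, 1334347, 3403597, 10863221, 14876245, 4528414,
  1928753, 4932958, 4032123, 12262724, 10865850, 6567925, 13060035, 5648691, 7566172, 4002196, 3787153, 7950131]],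
  by
  rw [LF.bndG.2]; decide +kernel⟩

theorem b63 : ∃ b L, Nat.beq (bnd CL DL XL tw b d63.R L) (Nat.succ d63.c) = true := ⟨16, [.self 2, .self 4, .self
  8, .self 32, .aff 32769 0, .aff 16385 0, .aff 4097 0, .sum 2 1, .aff 16385 1, .cnw 4 0, .cell [(true, 1), (true,
  0)], .base 0 128846 2, .two 2 128846, .cell [(true, 8), (false, 9)], .base 0 76690 1, .two 1 76690, .cell
  [(false, 7), (false, 16), (false, 15), (true, 14), (false, 13), (false, 5), (false, 4), (false, 1)], .cnt 0 16,
  .cell [(true, 0), (true, 17), (true, 9), (true, 18), (true, 16)], .cnt 0 8, .cell [(true, 2), (true, 0), (false,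
  14), (false, 4), (true, 7)], .base 0 93294 3, .two 2 76756, .two 1 25133, .cell [(true, 0), (false, 17), (false,
  26), (false, 25), (true, 15), (true, 24), (false, 23)], .cnt 0 4, .cell [(true, 20), (false, 10), (true, 3),
  (true, 0)], .sum 0 1, .cell [(true, 14), (true, 2), (false, 6), (true, 19), (false, 29), (false, 30), (false,
  5)], .base 0 73618 8, .two 1 4553, .cell [(true, 0), (true, 13)], .sum 0 8, .fin [12720958, 13268252, 1728480,
  7614193, 12776742, 14379346, 5614306, 10519657, 15382238, 3885053, 3910113, 14783970, 2108658, 12121637, 8955959,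
  14345602, 10380530, 8688351, 11215532, 2129800, 6696438, 8462054, 259247, 5632035]], by
  rw [LF.bndG.2]; decide +kernel⟩

theorem b72 : ∃ b L, Nat.beq (bnd CL DL XL tw b d72.R L) (Nat.succ d72.c) = true := ⟨19, [.self 2, .self 4, .self
  8, .self 16, .self 32, .self 64, .self 128, .self 256, .self 512, .aff 262145 0, .aff 299593 0, .aff 16513 0,
  .cell [(false, 9), (false, 6), (false, 5), (false, 10), (false, 11), (false, 8), (false, 7), (false, 3), (false,
  4), (false, 1), (false, 0), (false, 2)], .sum 0 1, .cell [(true, 3), (false, 13), (true, 6), (false, 12), (false,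
  7), (true, 8)], .base 0 130692 18, .cell [(true, 32), (true, 31), (true, 19), (true, 29), (false, 26), (true,
  17), (true, 9), (false, 30), (true, 4), (true, 16), (true, 3), (true, 28)], .sum 0 3, .cell [(true, 0), (true,
  3)], .sum 0 2, .fin [7399715, 16694657, 5841350, 1911141, 14006293, 14768788, 7220534, 9035614, 9844612, 4959936,
  1892352, 2690323, 13482590, 9814412, 8410509, 10162503, 6067365, 5471062, 6602040, 1737431, 12314254, 13640663,
  4491948, 10840876]], by
  rw [LF.bndG.2]; decide +kernel⟩

theorem b82 : ∃ b L, Nat.beq (bnd CL DL XL tw b d82.R L) (Nat.succ d82.c) = true := ⟨10, [.self 2, .self 4, .self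
  8, .self 16, .self 32, .self 128, .self 256, .self 512, .cell [(true, 7), (true, 6), (true, 4), (false, 3),
  (false, 1), (true, 5), (false, 2), (false, 0)], .cnt 0 32, .cell [(true, 0), (true, 9)], .base 0 93794 24, .fin
  [3802020, 9669714, 7526184, 2522422, 3601100, 15817925, 5365460, 10845726, 8992817, 13224476, 9038215, 11826516,
  3471273, 1856957, 5276684, 16620689, 13715948, 12498731, 5601797, 470364, 12179148, 1084434, 15159925,
  10347998]], by
  rw [LF.bndG.2]; decide +kernel⟩

theorem b90 : ∃ b L, Nat.beq (bnd CL DL XL tw b d90.R L) (Nat.succ d90.c) = true := ⟨31, [.self 2, .self 4, .self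
  8, .self 16, .self 32, .self 64, .self 256, .self 512, .aff 1073741825 0, .cell [(true, 8), (true, 4), (true, 6),
  (false, 2), (true, 1), (true, 3), (false, 5), (false, 7)], .base 0 128434 22, .cell [(true, 0), (true, 23)], .sum
  0 2, .fin [14054189, 11757561, 1281770, 13998715, 8614760, 2966041, 15941057, 388549, 11625008, 2479852,
  14541635, 7369658, 6155652, 2928857, 4094310, 5148228, 15069004, 2896208, 6544916, 6741774, 12309651, 11622953,
  5906049, 2551262]], by
  rw [LF.bndG.2]; decide +kernel⟩

end Cfsg.Agent.H123.Cls.CoD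
end
end

-- part: H123/Cls/LKy1_mg
section
set_option linter.all false
open scoped Cfsg.Agent.FastGrp

-- part: H123/Cls/LKy1
section
/-!
# `Co1` : keys of the classes (helper123)
-/

set_option autoImplicit false
set_option maxRecDepth 1000000

namespace Cfsg.Agent.H123.Cls.CoD

open Cfsg.Agent.H123.Cls Cfsg.Agent.MonsterX.LaneLab Cfsg.Agent.H264.TC.NoReal39

theorem k1 : okK CL DL XL d1 = true := by rw [LF.okKG.2]; decide +kernel

theorem k5 : okK CL DL XL d5 = true := by rw [LF.okKG.2]; decide +kernel

theorem k9 : okK CL DL XL d9 = true := by rw [LF.okKG.2]; decide +kernel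

theorem k13 : okK CL DL XL d13 = true := by rw [LF.okKG.2]; decide +kernel

theorem k17 : okK CL DL XL d17 = true := by rw [LF.okKG.2]; decide +kernel

theorem k21 : okK CL DL XL d21 = true := by rw [LF.okKG.2]; decide +kernel

theorem k25 : okK CL DL XL d25 = true := by rw [LF.okKG.2]; decide +kernel

theorem k29 : okK CL DL XL d29 = true := by rw [LF.okKG.2]; decide +kernel

theorem k33 : okK CL DL XL d33 = true := by rw [LF.okKG.2]; decide +kernel

theorem k37 : okK CL DL XL d37 = true := by rw [LF.okKG.2]; decide +kernel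

theorem k41 : okK CL DL XL d41 = true := by rw [LF.okKG.2]; decide +kernel

theorem k45 : okK CL DL XL d45 = true := by rw [LF.okKG.2]; decide +kernel

theorem k49 : okK CL DL XL d49 = true := by rw [LF.okKG.2]; decide +kernel

theorem k53 : okK CL DL XL d53 = true := by rw [LF.okKG.2]; decide +kernel

theorem k57 : okK CL DL XL d57 = true := by rw [LF.okKG.2]; decide +kernel

theorem k61 : okK CL DL XL d61 = true := by rw [LF.okKG.2]; decide +kernel

theorem k65 : okK CL DL XL d65 = true := by rw [LF.okKG.2]; decide +kernel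

theorem k69 : okK CL DL XL d69 = true := by rw [LF.okKG.2]; decide +kernel

theorem k73 : okK CL DL XL d73 = true := by rw [LF.okKG.2]; decide +kernel

theorem k77 : okK CL DL XL d77 = true := by rw [LF.okKG.2]; decide +kernel

theorem k81 : okK CL DL XL d81 = true := by rw [LF.okKG.2]; decide +kernel

theorem k85 : okK CL DL XL d85 = true := by rw [LF.okKG.2]; decide +kernel

theorem k89 : okK CL DL XL d89 = true := by rw [LF.okKG.2]; decide +kernel

theorem k93 : okK CL DL XL d93 = true := by rw [LF.okKG.2]; decide +kernel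

theorem k97 : okK CL DL XL d97 = true := by rw [LF.okKG.2]; decide +kernel

end Cfsg.Agent.H123.Cls.CoD
end

-- part: H123/Cls/LCt16
section
/-!
# `Co1` : bounds of the centralizers (helper123)
-/

set_option autoImplicit false
set_option maxRecDepth 1000000

namespace Cfsg.Agent.H123.Cls.CoD

open Cfsg.Agent.H123.Cls Cfsg.Agent.MonsterX.LaneLab Cfsg.Agent.H264.TC.NoReal39

theorem b33 : ∃ b L, Nat.beq (bnd CL DL XL tw b d33.R L) (Nat.succ d33.c) = true := ⟨7, [.self 2, .self 4, .aff 73
  0, .cell [(true, 0), (true, 2), (false, 1)], .cnt 0 388, .cell [(true, 2), (true, 0)], .base 0 36832 6, .two 32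
  36832, .two 1 33556, .cell [(true, 0), (true, 8)], .sum 0 6, .cell [(true, 8), (true, 16), (true, 9), (true, 2),
  (false, 4), (false, 1), (true, 0)], .base 0 5388 8, .cell [(true, 0), (true, 25)], .sum 0 2, .cell [(true, 10),
  (true, 9), (true, 8), (true, 1), (true, 31), (false, 15), (true, 0), (false, 25), (false, 26), (true, 12),
  (false, 23), (false, 24), (false, 5), (false, 3)], .sum 0 2, .fin [7888786, 3134410, 14118131, 11594058, 7367589,
  6241488, 11312494, 13065841, 9414496, 10895275, 13876069, 7410702, 13582146, 4460475, 6030306, 2019835, 11734189,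
  11873966, 593339, 16615561, 16587725, 8613206, 4809901, 5702134]], by
  rw [LF.bndG.2]; decide +kernel⟩

theorem b44 : ∃ b L, Nat.beq (bnd CL DL XL tw b d44.R L) (Nat.succ d44.c) = true := ⟨10, [.self 2, .self 4, .self
  8, .aff 585 0, .cell [(true, 0), (false, 3)], .cnt 0 288, .cell [(true, 1), (true, 0)], .base 0 5691 6, .two 32
  5691, .two 16 32227, .two 4 17774, .two 1 84109, .cell [(true, 7), (true, 5), (true, 15), (false, 9), (false, 8),
  (false, 6), (false, 16), (false, 4), (false, 11), (false, 14), (false, 3), (false, 2), (false, 1), (false, 0)],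
  .sum 0 2, .cell [(true, 10), (true, 9), (true, 7), (false, 1), (true, 18), (false, 11), (false, 0), (false, 17),
  (false, 19), (false, 12), (false, 14), (false, 5)], .sum 0 4, .cell [(true, 9), (true, 15), (true, 12), (false,
  5), (false, 16), (true, 24), (true, 0), (true, 22), (false, 3), (true, 23)], .base 0 109924 8, .two 1 103242,
  .cell [(true, 0), (true, 14)], .sum 0 4, .fin [15943245, 4915111, 7540072, 10365974, 1949308, 4328981, 1709380,
  3547435, 16434307, 15537930, 3493229, 8558346, 3037801, 6665105, 5914465, 8418852, 1653221, 14649736, 16425064,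
  9474017, 15251959, 2536729, 2140464, 1991987]], by
  rw [LF.bndG.2]; decide +kernel⟩

end Cfsg.Agent.H123.Cls.CoD
end
end
end
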