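import Cfsg.Agent.H68.CoInst_m3
import Cfsg.Agent.H123.Cls.LFast
import Cfsg.Agent.Prune
set_option linter.all false
open scoped Cfsg.Agent.FastGrp

-- part: H123/Cls/LCt7
section
/-!
# `Co1` : bounds of the centralizers (helper123)
-/

set_option autoImplicit false
set_option maxRecDepth 1000000

namespace Cfsg.Agent.H123.Cls.CoD

open Cfsg.Agent.H123.Cls Cfsg.Agent.MonsterX.LaneLab Cfsg.Agent.H264.TC.NoReal39

theorem b8 : ∃ b L, Nat.beq (bnd CL DL XL tw b d8.R L) (Nat.succ d8.c) = true := ⟨4, [.self 2, .aff 15 0, .cell
  [(true, 0), (true, 1)], .base 0 20556 3, .two 4 20556, .two 2 37989, .two 1 20547, .cell [(true, 2), (true, 1),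
  (true, 3), (true, 8)], .cnt 0 8, .cell [(true, 0), (true, 5)], .sum 0 1, .cell [(true, 10), (true, 4), (true, 2),
  (false, 6)], .base 0 34880 2, .two 2 34880, .two 1 121606, .cell [(true, 0), (true, 6)], .sum 0 2, .cell [(true,
  12), (true, 3), (false, 6), (false, 4), (false, 17), (false, 10), (true, 20)], .base 0 66854 4, .two 4 99714,
  .two 1 70274, .cell [(true, 0), (true, 9)], .sum 0 2, .cell [(true, 0), (true, 12)], .sum 0 1, .cell [(true, 1),
  (true, 6)], .sum 0 1, .cell [(true, 23), (true, 30), (false, 9), (true, 12), (false, 14), (false, 10), (false,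
  19), (false, 5), (false, 2), (false, 31), (false, 20), (false, 17)], .base 0 22055 4, .two 1 108916, .cell
  [(true, 0), (true, 9)], .sum 0 4, .fin [7280156, 11874113, 14989458, 379119, 14003042, 15423465, 862557,
  11862639, 13431217, 14644398, 9667868, 2525139, 8585534, 11431434, 9944225, 37586, 2104245, 5566976, 8430790,
  95980, 16329863, 13148508, 615962, 5887975]], by
  rw [LF.bndG.2]; decide +kernel⟩

theorem b16 : ∃ b L, Nat.beq (bnd CL DL XL tw b d16.R L) (Nat.succ d16.c) = true := ⟨6, [.self 2, .self 4, .aff 63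
  0, .aff 21 0, .base 0 109973 4, .two 8 109973, .two 4 1270, .two 2 71560, .two 1 70583, .cell [(false, 7),
  (false, 6), (false, 5), (false, 4), (false, 11), (false, 10), (false, 9), (false, 3), (false, 2), (false, 1),
  (false, 0)], .sum 0 1, .cell [(true, 5), (true, 2), (false, 8), (false, 13), (false, 4), (false, 3)], .base 0
  102293 1, .two 1 102293, .cell [(true, 11), (false, 3), (false, 9), (false, 16), (false, 10), (false, 15),
  (false, 1), (false, 12), (false, 14), (false, 6), (false, 0)], .sum 0 5, .cell [(true, 22), (true, 4), (true, 2),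
  (true, 0), (true, 18), (true, 15), (true, 1), (false, 17), (true, 16), (false, 7), (true, 3), (false, 13),
  (false, 6)], .sum 0 1, .cell [(true, 15), (true, 13), (true, 20), (true, 3), (false, 24), (true, 18), (false, 6),
  (false, 0)], .base 0 14602 6, .two 1 109969, .cell [(true, 0), (true, 15)], .sum 0 6, .fin [2064070, 10027054,
  3902554, 10665035, 15111721, 13107960, 3501829, 7703027, 14899, 1546888, 14942074, 12039911, 8327383, 6680675,
  11192694, 6600265, 3567250, 7046105, 1352680, 14339638, 1894436, 14658090, 7914980, 12225914]], by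
  rw [LF.bndG.2]; decide +kernel⟩

theorem b24 : ∃ b L, Nat.beq (bnd CL DL XL tw b d24.R L) (Nat.succ d24.c) = true := ⟨7, [.self 2, .self 8, .aff 65
  0, .cnw 0 4, .cell [(true, 0), (false, 3), (false, 2)], .base 0 76210 7, .two 1 124690, .cell [(true, 0), (true,
  8)], .sum 0 7, .cell [(true, 0), (true, 7)], .sum 0 7, .cell [(true, 0), (true, 7)], .sum 0 1, .cell [(true, 0),
  (true, 1)], .sum 0 1, .cell [(true, 0), (true, 1)], .sum 0 1, .fin [10424589, 2212742, 5848746, 4557167, 1324936,
  9790923, 8236424, 11404063, 4283025, 3969544, 9478072, 1022663, 3448623, 3376715, 9492336, 9935348, 8520951,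
  6223888, 11723720, 16531019, 8086837, 16491790, 10439622, 7822347]], by
  rw [LF.bndG.2]; decide +kernel⟩

theorem b35 : ∃ b L, Nat.beq (bnd CL DL XL tw b d35.R L) (Nat.succ d35.c) = true := ⟨9, [.self 2, .aff 341 0, .cell
  [(true, 0), (true, 1)], .base 0 83624 8, .two 64 91985, .two 1 47187, .cell [(true, 1), (true, 0), (true, 6),
  (true, 9), (true, 5), (false, 7), (true, 12)], .base 0 44044 10, .two 32 127786, .two 8 79910, .cell [(true, 0),
  (true, 12)], .sum 0 2, .cell [(true, 2), (true, 4)], .sum 0 2, .cell [(true, 2), (true, 9)], .sum 0 2, .fin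
  [4954099, 7527595, 16124169, 14482857, 3786106, 4930677, 14816147, 3539617, 9173924, 9005398, 4599789, 44684,
  5020538, 8704708, 13860717, 7059155, 775727, 12939411, 8403398, 13189899, 5959882, 4849436, 9222905, 48048]], by
  rw [LF.bndG.2]; decide +kernel⟩

theorem b45 : ∃ b L, Nat.beq (bnd CL DL XL tw b d45.R L) (Nat.succ d45.c) = true := ⟨12, [.self 2, .self 4, .aff
  2049 0, .cnw 0 2, .cell [(true, 0), (false, 3), (true, 2)], .base 0 28206 9, .two 1 125093, .cell [(true, 0),
  (true, 10)], .sum 0 6, .cell [(true, 0), (true, 6)], .sum 0 3, .cell [(true, 0), (true, 3)], .sum 0 5, .cell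
  [(true, 0), (true, 5)], .sum 0 1, .fin [7061712, 13310059, 121096, 14030927, 11898397, 4236967, 12959896,
  6832483, 11584796, 10867986, 4260903, 2372835, 1267140, 8228919, 8444688, 11149369, 13616794, 8183938, 11181554,
  646702, 6488867, 1079833, 10370192, 8810996]], by
  rw [LF.bndG.2]; decide +kernel⟩

theorem b53 : ∃ b L, Nat.beq (bnd CL DL XL tw b d53.R L) (Nat.succ d53.c) = true := ⟨9, [.self 2, .self 4, .self 8,
  .self 16, .self 32, .aff 273 0, .cell [(false, 2), (true, 3), (false, 4), (false, 5), (true, 1), (false, 0)],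
  .base 0 88323 9, .two 4 67296, .cell [(true, 1), (true, 10)], .sum 0 2, .cell [(true, 2), (true, 3)], .sum 0 2,
  .cell [(false, 19), (false, 18), (true, 10), (true, 3), (false, 12), (true, 9), (false, 11), (true, 0), (false,
  21), (false, 15), (true, 7), (false, 14), (true, 4), (true, 8)], .sum 0 1, .cell [(true, 0), (true, 1)], .sum 0
  2, .cell [(true, 0), (true, 2)], .sum 0 2, .cell [(true, 29), (true, 6), (false, 30), (false, 9), (false, 8),
  (true, 15), (false, 22), (true, 21), (true, 17), (true, 19), (true, 18), (false, 28), (false, 12), (false, 11)],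
  .sum 0 6, .fin [4071669, 15488948, 11609641, 11275125, 15002375, 3379459, 15847861, 8312670, 9824236, 10099463,
  1016284, 12884381, 3924631, 11120180, 4483448, 8446321, 12739329, 9833346, 14472015, 4699340, 12552621, 12500854,
  561782, 14391534]], by
  rw [LF.bndG.2]; decide +kernel⟩

theorem b64 : ∃ b L, Nat.beq (bnd CL DL XL tw b d64.R L) (Nat.succ d64.c) = true := ⟨16, [.self 2, .self 4, .self
  8, .self 16, .self 32, .self 64, .aff 32769 0, .aff 16385 0, .aff 4097 0, .sum 2 1, .aff 16385 1, .cell [(true,
  2), (false, 3), (false, 0)], .base 0 37647 3, .two 2 11705, .two 1 87177, .cell [(true, 0), (false, 3), (false,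
  4), (true, 11), (false, 16), (false, 14), (false, 12), (false, 1)], .cnt 0 0, .cell [(true, 0), (true, 12)], .sum
  0 1, .cell [(true, 2), (true, 15), (true, 17), (false, 20)], .cnt 0 8, .cell [(true, 4), (true, 0), (false, 14)],
  .base 0 113264 4, .two 8 113264, .two 1 46853, .cell [(true, 13), (true, 1), (false, 26), (false, 27), (false,
  14), (false, 7)], .base 0 111145 2, .two 2 111145, .cell [(false, 28), (true, 20), (true, 8), (true, 2), (true,
  7), (false, 33), (false, 21), (false, 19), (false, 6), (true, 1), (false, 30), (false, 29), (false, 9), (false,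
  31)], .sum 0 1, .cell [(true, 2), (false, 21), (false, 22), (true, 30), (false, 32), (true, 0), (true, 8), (true,
  33), (true, 23), (false, 10)], .base 0 110799 10, .cell [(true, 2), (true, 12)], .sum 0 1, .cell [(true, 19),
  (true, 45), (false, 23), (true, 17), (false, 10), (false, 13), (false, 6), (true, 47)], .sum 0 1, .fin [8163110,
  11166923, 11968553, 10676769, 12295029, 6310657, 3401750, 13680400, 13740652, 9793700, 12891962, 3067857, 482861,
  8524472, 9264809, 7583806, 14984374, 8665077, 13984017, 3289490, 10478434, 8091092, 8898988, 9300852]], by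
  rw [LF.bndG.2]; decide +kernel⟩

theorem b74 : ∃ b L, Nat.beq (bnd CL DL XL tw b d74.R L) (Nat.succ d74.c) = true := ⟨21, [.self 2, .self 4, .self
  8, .self 16, .self 32, .self 64, .self 128, .self 256, .self 512, .aff 1048577 0, .cell [(true, 0), (true, 1)],
  .sum 0 1, .cnt 1 2, .cell [(true, 6), (false, 9), (false, 7), (false, 4), (false, 1), (false, 0), (false, 11),
  (false, 12)], .cnt 0 16, .cell [(true, 0), (true, 2), (true, 11), (true, 7), (false, 10), (true, 13), (false, 6),
  (false, 14)], .base 0 65664 21, .two 262144 93487, .cell [(true, 0), (true, 33), (true, 8), (true, 16), (false,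
  35), (true, 26), (true, 29), (true, 2), (false, 15), (false, 34)], .sum 0 2, .fin [7618272, 3947111, 4188715,
  8850388, 9622314, 1115874, 6357603, 6386927, 9271269, 12088374, 9277634, 2023814, 13312636, 2439156, 10577377,
  4854457, 15796824, 13647757, 7860375, 9774230, 6674360, 539934, 11817152, 551031]], by
  rw [LF.bndG.2]; decide +kernel⟩

theorem b83 : ∃ b L, Nat.beq (bnd CL DL XL tw b d83.R L) (Nat.succ d83.c) = true := ⟨22, [.self 2, .self 4, .self
  8, .self 16, .self 32, .self 64, .self 128, .self 256, .self 512, .aff 2113665 0, .cell [(false, 6), (false, 2),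
  (true, 3), (false, 9), (false, 8), (false, 4), (true, 7), (false, 5), (false, 1)], .cnt 0 36, .cell [(true, 2),
  (true, 0), (true, 10)], .base 0 34656 18, .two 1 82834, .cell [(true, 0), (true, 21)], .sum 0 6, .fin [15604371,
  13601875, 12693949, 8449914, 4460340, 13073395, 2063003, 6172260, 14208080, 16496912, 14963065, 15516083,
  11282551, 6532492, 12672567, 6244212, 5780052, 4444879, 3853610, 11075136, 1121946, 4750590, 16023403, 2046118]],
  by
  rw [LF.bndG.2]; decide +kernel⟩

theorem b91 : ∃ b L, Nat.beq (bnd CL DL XL tw b d91.R L) (Nat.succ d91.c) = true := ⟨10, [.self 8, .self 16, .self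
  32, .self 64, .self 128, .self 256, .self 512, .cell [(false, 2), (false, 4), (false, 1), (false, 5), (true, 0),
  (true, 3), (true, 6)], .base 0 24823 24, .fin [6581750, 8021296, 16481869, 5762215, 12863666, 5666328, 12357177,
  10478404, 1705228, 3676451, 1779980, 13123976, 14340073, 4289346, 16482740, 873204, 606741, 7071356, 15970016,
  15376420, 11173940, 13376968, 15193138, 9594270]], by
  rw [LF.bndG.2]; decide +kernel⟩

end Cfsg.Agent.H123.Cls.CoD
end

-- part: H123/Cls/LCt15
section
/-!
# `Co1` : bounds of the centralizers (helper123)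
-/

set_option autoImplicit false
set_option maxRecDepth 1000000

namespace Cfsg.Agent.H123.Cls.CoD

open Cfsg.Agent.H123.Cls Cfsg.Agent.MonsterX.LaneLab Cfsg.Agent.H264.TC.NoReal39

theorem b70 : ∃ b L, Nat.beq (bnd CL DL XL tw b d70.R L) (Nat.succ d70.c) = true := ⟨6, [.self 2, .self 4, .self 8,
  .self 16, .self 32, .cell [(false, 0), (true, 3), (false, 1), (false, 4), (true, 2)], .cnt 0 352, .base 0 106605
  8, .two 32 39588, .two 16 84809, .two 8 8572, .two 1 34696, .cell [(true, 17), (true, 11), (true, 6), (true, 9),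
  (true, 8), (true, 10), (true, 5), (false, 16), (true, 15), (true, 4), (false, 18), (false, 1)], .sum 0 4, .cell
  [(false, 19), (true, 22), (true, 16), (true, 15), (true, 23), (true, 21), (true, 20), (false, 17), (false, 14),
  (false, 7), (false, 8), (false, 6), (false, 13), (false, 5)], .sum 0 4, .cell [(true, 27), (true, 21), (true,
  16), (true, 5), (true, 3), (false, 20), (false, 6), (false, 19), (false, 26), (true, 17), (false, 28), (true,
  15), (true, 0)], .base 0 17872 4, .two 1 110677, .cell [(true, 0), (true, 15)], .sum 0 4, .fin [13760279,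
  3093035, 1451468, 16397955, 7832039, 10557972, 2550785, 2854405, 9036177, 1530087, 557758, 14860820, 9740553,
  10663216, 8432339, 11183727, 12913434, 5537039, 14335220, 16717270, 11613544, 1796596, 9799169, 13419404]], by
  rw [LF.bndG.2]; decide +kernel⟩

theorem b27 : ∃ b L, Nat.beq (bnd CL DL XL tw b d27.R L) (Nat.succ d27.c) = true := ⟨8, [.self 2, .self 4, .self 8,
  .aff 17 0, .aff 255 0, .cell [(true, 1), (true, 4)], .cnt 0 256, .base 0 69134 4, .two 8 69134, .two 4 117057,
  .two 2 42264, .two 1 38730, .cell [(true, 1), (true, 10), (false, 14), (false, 7), (true, 13), (false, 6)], .cnt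
  0 64, .cell [(true, 0), (true, 10), (true, 5)], .base 0 47108 2, .two 2 47108, .two 1 18811, .cell [(true, 19),
  (false, 21), (true, 14), (true, 12), (false, 13), (false, 2), (false, 3), (true, 20), (false, 1), (false, 9),
  (false, 0)], .sum 0 2, .two 121 23705, .cell [(true, 12), (false, 7), (true, 17), (true, 23), (false, 25), (true,
  6), (false, 5), (false, 2)], .cnt 0 2, .cell [(true, 13), (true, 0), (false, 8), (true, 25), (false, 26), (false,
  6), (false, 9), (false, 2)], .base 0 104876 6, .two 2 17670, .cell [(true, 0), (true, 13)], .sum 0 2, .cell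
  [(true, 0), (true, 2)], .sum 0 4, .cell [(true, 0), (true, 7)], .sum 0 2, .cell [(true, 42), (true, 38), (true,
  36), (true, 45), (false, 4), (true, 16), (true, 12), (false, 46), (false, 27), (false, 39), (false, 3), (false,
  0)], .sum 0 1, .cell [(true, 46), (false, 48), (true, 24), (true, 40), (true, 38), (true, 16), (true, 14),
  (false, 3), (false, 15), (false, 41), (true, 29), (true, 19)], .sum 0 1, .fin [1671954, 5620216, 15748900,
  8162723, 11362204, 4036358, 292635, 13699427, 15945701, 3323663, 16244896, 9639636, 2957084, 7126742, 3956414,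
  505272, 16117738, 1008607, 4661400, 893302, 12453179, 5744885, 15572239, 12970389]], by
  rw [LF.bndG.2]; decide +kernel⟩

end Cfsg.Agent.H123.Cls.CoD
end
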