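import Cfsg.Agent.H68.CoInst_m3
import Cfsg.Agent.H123.Cls.LFast
import Cfsg.Agent.Prune
set_option linter.all false
open scoped Cfsg.Agent.FastGrp

-- part: H123/Cls/LCsa
section
/-!
# Counting with carry save adders (helper123)

`lrunC` has the same value as `lrun`; the counts of the first instructions use fewer operations.
-/

set_option autoImplicit false

namespace Cfsg.Agent.H123.Cls

open Cfsg.Agent.Lib.BitNet
open Cfsg.Agent.Lib.BitNetSimple (force force_eq tb tb_eq)

/-- counters with one or two planes in every position -/
inductive Ac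
  /-- no planes -/
  | nil
  /-- one plane -/
  | one (p : ℕ) (l : Ac)
  /-- two planes -/
  | two (p q : ℕ) (l : Ac)

/-! ### rows by groups of four columns -/

/-! ### the codes of the points are read from the parts of the columns -/

end Cfsg.Agent.H123.Cls
end

-- part: H123/Cls/LCt8
section
/-!
# `Co1` : bounds of the centralizers (helper123)
-/

set_option autoImplicit false
set_option maxRecDepth 1000000

namespace Cfsg.Agent.H123.Cls.CoD

open Cfsg.Agent.H123.Cls Cfsg.Agent.MonsterX.LaneLab Cfsg.Agent.H264.TC.NoReal39

theorem b39 : ∃ b L, Nat.beq (bnd CL DL XL tw b d39.R L) (Nat.succ d39.c) = true := ⟨4, [.self 2, .self 4, .self 8,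
  .cell [(false, 1), (false, 2), (false, 0)], .cnt 0 4272, .cell [(true, 0), (false, 4)], .base 0 13511 8, .two 1
  6157, .cell [(true, 0), (true, 9)], .sum 0 8, .cell [(true, 0), (true, 8)], .sum 0 8, .fin [8460222, 322069,
  14969125, 10989567, 11452995, 270251, 15219920, 1232365, 15861094, 9803493, 3532322, 78437, 5525790, 13105173,
  8664844, 14183623, 8824036, 3719203, 4675831, 1072994, 2990091, 6662480, 16341017, 1435383]], by
  rw [LF.bndG.2]; decide +kernel⟩

end Cfsg.Agent.H123.Cls.CoD
end

-- part: H123/Cls/LCt9
section
/-!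
# `Co1` : bounds of the centralizers (helper123)
-/

set_option autoImplicit false
set_option maxRecDepth 1000000

namespace Cfsg.Agent.H123.Cls.CoD

open Cfsg.Agent.H123.Cls Cfsg.Agent.MonsterX.LaneLab Cfsg.Agent.H264.TC.NoReal39

theorem b62 : ∃ b L, Nat.beq (bnd CL DL XL tw b d62.R L) (Nat.succ d62.c) = true := ⟨4, [.self 2, .self 4, .self 8,
  .cell [(false, 0), (false, 2), (false, 1)], .cnt 0 2400, .cell [(true, 0), (false, 4), (true, 3)], .base 0 7465
  8, .two 128 7465, .two 64 11763, .two 8 91150, .two 4 42603, .cell [(true, 2), (true, 1), (true, 0), (false,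
  16)], .base 0 9128 8, .cell [(true, 12), (false, 24), (true, 0), (false, 25), (false, 18), (false, 4), (true,
  14), (true, 2), (true, 17), (false, 11)], .base 0 7843 8, .fin [16053292, 13713708, 3975368, 7753797, 11970941,
  13926294, 8238183, 14820211, 16365729, 16766288, 15182173, 2673453, 13923927, 10661785, 3487809, 13942222,
  6300327, 11666313, 5900587, 13268014, 16340123, 11042416, 630769, 7185342]], by
  rw [LF.bndG.2]; decide +kernel⟩

end Cfsg.Agent.H123.Cls.CoD
end
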