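import Cfsg.Agent.H68.CoInst_m3
import Cfsg.Agent.H123.Cls.LFast
import Cfsg.Agent.Prune
set_option linter.all false

-- part: H123/Cls/LCt1_mg
section
set_option linter.all false
open scoped Cfsg.Agent.FastGrp

-- part: H123/Cls/LCt1
section
/-!
# `Co1` : bounds of the centralizers (helper123)
-/

set_option autoImplicit false
set_option maxRecDepth 1000000

namespace Cfsg.Agent.H123.Cls.CoD

open Cfsg.Agent.H123.Cls Cfsg.Agent.MonsterX.LaneLab Cfsg.Agent.H264.TC.NoReal39

theorem b2 : ∃ b L, Nat.beq (bnd CL DL XL tw b d2.R L) (Nat.succ d2.c) = true := ⟨2, [.self 2, .aff 3 0, .base 1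
  25805 2, .two 2 25805, .two 1 43736, .cell [(true, 4), (true, 1)], .base 0 115654 1, .two 1 115654, .cell [(true,
  4), (true, 3), (false, 8), (true, 0), (false, 7)], .base 0 96903 2, .two 2 96903, .two 1 86353, .cell [(true,
  10), (false, 13), (false, 3), (false, 11), (false, 6), (false, 2), (false, 5), (false, 1), (false, 0), (false,
  9)], .sum 0 1, .cell [(true, 10), (true, 7), (true, 3), (true, 15), (true, 0), (true, 4), (true, 13)], .base 0
  84627 2, .two 1 106033, .cell [(true, 0), (true, 5)], .sum 0 1, .cell [(true, 1), (true, 4)], .sum 0 1, .cell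
  [(true, 0), (true, 1)], .sum 0 1, .cell [(true, 23), (false, 25), (true, 18), (false, 15), (false, 7), (true, 4),
  (true, 2), (false, 22), (false, 14), (false, 8), (false, 0), (false, 6)], .sum 0 1, .cell [(true, 15), (false,
  24), (false, 10), (true, 4), (false, 22), (true, 20), (false, 0), (true, 16), (false, 9), (false, 27), (true,
  25), (false, 2)], .base 0 9500 2, .two 1 20495, .cell [(true, 0), (true, 17)], .sum 0 2, .cell [(true, 0), (true,
  2)], .sum 0 2, .cell [(true, 0), (true, 2)], .sum 0 1, .two 1 20429, .cell [(true, 0), (true, 14)], .sum 0 2,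
  .cell [(true, 0), (true, 2)], .sum 0 2, .cell [(true, 0), (true, 8)], .sum 0 1, .fin [5967336, 13529545, 5728321,
  14611210, 2051041, 3457680, 7692381, 991871, 2433493, 10264079, 5088309, 7218932, 16342553, 13386694, 1074501,
  2907486, 7797848, 486434, 1219347, 4458895, 822958, 1138330, 635923, 14683198]], by
  rw [LF.bndG.2]; decide +kernel⟩

theorem b10 : ∃ b L, Nat.beq (bnd CL DL XL tw b d10.R L) (Nat.succ d10.c) = true := ⟨4, [.self 2, .aff 15 0, .base
  0 730 3, .two 4 730, .two 2 47520, .two 1 127493, .aff 9 2, .base 0 92705 1, .two 1 92705, .cell [(true, 9),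
  (true, 5), (true, 7), (false, 0)], .cnt 0 16, .cell [(true, 0), (true, 2), (true, 12), (true, 7)], .cnt 0 8,
  .cell [(true, 13), (false, 5), (false, 12), (false, 11), (false, 0), (false, 4), (false, 2), (false, 8)], .sum 0
  1, .two 1 84758, .cell [(true, 12), (true, 11), (false, 17), (false, 3), (false, 10), (false, 7), (false, 5)],
  .sum 0 3, .two 4 68674, .two 2 106501, .two 1 91112, .cell [(true, 10), (true, 7), (true, 2), (true, 24), (true,
  1)], .base 0 18677 4, .two 1 42842, .cell [(true, 0), (true, 15)], .sum 0 2, .cell [(true, 2), (true, 5)], .sum 0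
  1, .cell [(true, 5), (true, 23)], .sum 0 1, .cell [(true, 35), (true, 33), (true, 21), (true, 10), (false, 16),
  (false, 37), (true, 28), (false, 18), (true, 17), (false, 13), (true, 11), (true, 9), (true, 8), (true, 2)],
  .base 0 30859 4, .two 2 9037, .cell [(true, 0), (true, 31)], .sum 0 4, .fin [8151023, 13893344, 8149155,
  16063675, 6379545, 2021145, 11305521, 5132235, 16728503, 3828143, 3941835, 9478070, 6052147, 8976917, 8916883,
  10927754, 10538305, 3908016, 1765764, 8930083, 1875639, 4693425, 549034, 3405029]], by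
  rw [LF.bndG.2]; decide +kernel⟩

theorem b18 : ∃ b L, Nat.beq (bnd CL DL XL tw b d18.R L) (Nat.succ d18.c) = true := ⟨6, [.self 2, .self 4, .aff 33
  0, .aff 63 0, .cnw 1 0, .cell [(false, 4), (true, 3), (false, 1), (true, 0)], .base 0 30742 6, .two 32 30742,
  .two 2 125039, .two 1 66131, .cell [(true, 14), (true, 7), (true, 6), (true, 5), (false, 3), (false, 8), (false,
  4), (true, 10), (true, 13), (false, 2), (false, 0), (false, 1)], .sum 0 2, .cell [(true, 0), (true, 2)], .sum 0
  5, .cell [(true, 0), (true, 5)], .sum 0 5, .cell [(true, 0), (true, 5)], .sum 0 2, .cell [(true, 0), (true, 14)],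
  .sum 0 2, .cell [(true, 0), (true, 2)], .sum 0 2, .fin [8180382, 3533126, 8346627, 14668777, 15247376, 893866,
  5383553, 2551985, 7662380, 16351299, 13798158, 7244000, 3442546, 4194320, 12843381, 12240727, 16439649, 11848830,
  2830567, 3774352, 2133439, 15561708, 1844987, 3784181]], by
  rw [LF.bndG.2]; decide +kernel⟩

theorem b28 : ∃ b L, Nat.beq (bnd CL DL XL tw b d28.R L) (Nat.succ d28.c) = true := ⟨8, [.self 2, .self 4, .aff 129
  0, .cnt 0 4, .cell [(true, 0), (true, 2), (false, 3)], .base 0 85300 6, .two 16 17287, .two 2 84787, .cell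
  [(true, 12), (true, 7), (true, 5), (true, 4), (false, 6), (false, 2), (false, 3), (false, 11), (false, 0),
  (false, 1)], .sum 0 3, .two 2 88324, .cell [(true, 0), (true, 4)], .sum 0 3, .cell [(true, 0), (true, 3)], .sum 0
  2, .cell [(true, 0), (true, 2)], .sum 0 4, .cell [(true, 0), (true, 4)], .sum 0 4, .two 1 130145, .cell [(true,
  0), (true, 5)], .sum 0 2, .fin [9966233, 6479837, 6869277, 13686409, 16321246, 13768642, 12069128, 564584,
  13440804, 6193193, 8739968, 10946384, 1313221, 1985046, 14304562, 15392395, 16513289, 508869, 11165303, 8340908,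
  2939951, 4875418, 14580667, 9295689]], by
  rw [LF.bndG.2]; decide +kernel⟩

theorem b37 : ∃ b L, Nat.beq (bnd CL DL XL tw b d37.R L) (Nat.succ d37.c) = true := ⟨9, [.self 2, .self 4, .self 8,
  .self 32, .aff 341 0, .cell [(true, 0), (true, 4), (true, 3), (true, 2)], .base 0 115395 8, .two 1 115312, .cell
  [(true, 0), (true, 9)], .sum 0 8, .cell [(true, 17), (true, 16), (true, 14), (true, 13), (false, 22), (false, 2),
  (false, 5), (false, 10), (false, 11), (true, 3), (false, 21), (true, 1), (false, 12), (false, 20)], .sum 0 1,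
  .cell [(true, 18), (true, 16), (false, 24), (true, 23), (false, 25), (true, 8), (false, 6), (false, 9), (false,
  17), (true, 3), (true, 0), (false, 14), (false, 15), (true, 5)], .sum 0 2, .cell [(true, 0), (true, 2)], .sum 0
  2, .cell [(true, 0), (true, 7)], .sum 0 1, .cell [(true, 1), (true, 5)], .sum 0 2, .fin [5160787, 263384,
  4489502, 5372222, 9341252, 11066329, 3239824, 5364256, 10982054, 3087059, 6587908, 14086755, 14890979, 1673823,
  8729841, 2822307, 2199187, 14073521, 1920655, 6260678, 12917404, 7633508, 15562055, 12286323]], by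
  rw [LF.bndG.2]; decide +kernel⟩

theorem b47 : ∃ b L, Nat.beq (bnd CL DL XL tw b d47.R L) (Nat.succ d47.c) = true := ⟨11, [.self 2, .self 4, .self
  8, .self 16, .aff 1365 0, .aff 585 0, .aff 273 0, .cell [(true, 0), (true, 1)], .base 0 40915 6, .two 32 40915,
  .two 16 16793, .two 8 25112, .two 4 105322, .two 2 114177, .two 1 102351, .cell [(true, 19), (false, 17), (false,
  11), (false, 9), (false, 10), (false, 8), (false, 7), (false, 6), (false, 15), (false, 5), (false, 4), (false,
  3), (false, 2), (false, 1), (false, 0)], .sum 0 3, .cell [(true, 0), (true, 3)], .sum 0 3, .cell [(true, 1),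
  (true, 3)], .sum 0 1, .cell [(true, 3), (true, 9)], .sum 0 1, .cell [(true, 22), (true, 20), (false, 29), (true,
  6), (false, 28), (true, 9), (true, 0), (false, 21), (true, 2), (false, 23), (false, 31), (false, 30), (false, 4),
  (false, 5), (true, 10)], .sum 0 2, .cell [(true, 0), (true, 4)], .sum 0 2, .cell [(true, 0), (true, 5)], .sum 0
  4, .cell [(true, 39), (false, 20), (false, 13), (true, 6), (false, 9), (true, 3), (true, 19), (true, 21), (true,
  0), (true, 5), (false, 42), (true, 31), (false, 32)], .sum 0 2, .fin [4821657, 440646, 3475516, 16305, 6376002,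
  2228514, 306555, 7333104, 335178, 10183351, 9647768, 1276661, 12054823, 7669862, 8153123, 16020329, 9691089,
  11714949, 6012257, 14234026, 5145650, 1478605, 12673876, 430426]], by
  rw [LF.bndG.2]; decide +kernel⟩

theorem b56 : ∃ b L, Nat.beq (bnd CL DL XL tw b d56.R L) (Nat.succ d56.c) = true := ⟨13, [.self 2, .self 4, .self
  8, .self 32, .self 64, .aff 5461 0, .cell [(true, 0), (false, 5), (true, 1), (true, 4), (true, 3)], .base 0 92465
  12, .two 256 125193, .two 1 87092, .cell [(true, 0), (true, 14)], .sum 0 6, .cell [(true, 20), (true, 19), (true,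
  15), (true, 11), (true, 9), (false, 5), (false, 24), (false, 3), (true, 2), (true, 1), (true, 0), (false, 27),
  (false, 16), (false, 25), (false, 22)], .sum 0 2, .cell [(true, 0), (true, 2)], .sum 0 1, .cell [(true, 13),
  (true, 23), (true, 18), (true, 15), (true, 30), (true, 25), (false, 29), (false, 7), (false, 31), (true, 8)],
  .sum 0 1, .cell [(true, 0), (true, 3)], .sum 0 1, .cell [(true, 2), (true, 8)], .sum 0 1, .fin [12745077,
  1436004, 11603466, 808256, 9199958, 7868434, 2808644, 8969536, 1510338, 12173065, 8341959, 2187914, 288933,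
  13222615, 1504735, 16463982, 1704772, 15222744, 16468570, 9427493, 12072046, 7946987, 767142, 2475847]], by
  rw [LF.bndG.2]; decide +kernel⟩

theorem b66 : ∃ b L, Nat.beq (bnd CL DL XL tw b d66.R L) (Nat.succ d66.c) = true := ⟨13, [.self 2, .self 4, .self
  8, .self 16, .self 32, .aff 4161 0, .cell [(true, 0), (false, 3), (false, 4), (false, 2), (true, 1), (false, 5)],
  .base 0 94259 12, .two 8 23031, .cell [(true, 0), (true, 17), (true, 2), (true, 12), (true, 11), (true, 3),
  (false, 18), (false, 15)], .base 0 115029 10, .cell [(true, 2), (true, 10)], .sum 0 2, .fin [6849734, 4587636,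
  11877451, 16369740, 13580463, 12993636, 14446670, 16376562, 2179204, 5664074, 14137804, 14531805, 5129158,
  8519621, 9981605, 15959033, 1223092, 6494734, 6663155, 7022128, 3502341, 5948121, 8896456, 8994247]], by
  rw [LF.bndG.2]; decide +kernel⟩

theorem b76 : ∃ b L, Nat.beq (bnd CL DL XL tw b d76.R L) (Nat.succ d76.c) = true := ⟨17, [.self 2, .self 4, .self
  32, .self 64, .aff 65793 0, .cell [(true, 0), (true, 2), (false, 4)], .base 0 78167 12, .two 128 42187, .two 32
  67242, .cell [(true, 1), (true, 0), (false, 16), (false, 11), (false, 6), (true, 10), (false, 18), (false, 19),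
  (false, 17)], .base 0 12391 6, .cell [(true, 0), (true, 6)], .sum 0 6, .fin [6905671, 4581432, 9269043, 16256596,
  4828742, 15689252, 196640, 2367102, 9615040, 8941153, 2874988, 16019946, 16184803, 12849157, 8232775, 9790154,
  1452892, 13036314, 4629021, 10920009, 11899146, 15661310, 9263468, 4045317]], by
  rw [LF.bndG.2]; decide +kernel⟩

theorem b85 : ∃ b L, Nat.beq (bnd CL DL XL tw b d85.R L) (Nat.succ d85.c) = true := ⟨21, [.self 2, .self 4, .self
  8, .self 32, .self 64, .self 512, .aff 1049601 0, .cell [(true, 0), (false, 6), (true, 5)], .base 0 34290 16,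
  .cell [(false, 19), (false, 20), (true, 14), (true, 7), (true, 18), (true, 13), (true, 8), (true, 5), (true, 11),
  (true, 10), (false, 6), (true, 2), (false, 22), (true, 21)], .sum 0 8, .fin [14544145, 1709248, 9845522,
  16460229, 8642760, 13994586, 3368017, 4307144, 10768785, 14010866, 9105072, 1472710, 2653377, 4483849, 14004432,
  11304297, 11057542, 1779736, 277105, 1267646, 6455713, 6481273, 400929, 7218657]], by
  rw [LF.bndG.2]; decide +kernel⟩

theorem b93 : ∃ b L, Nat.beq (bnd CL DL XL tw b d93.R L) (Nat.succ d93.c) = true := ⟨10, [.self 2, .self 4, .self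
  8, .self 16, .self 32, .self 64, .self 256, .self 512, .cell [(true, 7), (true, 6), (true, 4), (true, 2), (false,
  0), (true, 5), (false, 3), (false, 1)], .base 0 109392 24, .fin [9987336, 3481909, 5305518, 10313657, 2912699,
  9378046, 9873162, 16002887, 15000798, 3382885, 16682682, 4504667, 5835704, 2856564, 1194746, 5534851, 7773612,
  12808757, 13404571, 10106605, 3865372, 9137667, 3428721, 12365136]], by
  rw [LF.bndG.2]; decide +kernel⟩

end Cfsg.Agent.H123.Cls.CoD
end

-- part: H123/Cls/LCt10
section
/-!
# `Co1` : bounds of the centralizers (helper123)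
-/

set_option autoImplicit false
set_option maxRecDepth 1000000

namespace Cfsg.Agent.H123.Cls.CoD

open Cfsg.Agent.H123.Cls Cfsg.Agent.MonsterX.LaneLab Cfsg.Agent.H264.TC.NoReal39

theorem b1 : ∃ b L, Nat.beq (bnd CL DL XL tw b d1.R L) (Nat.succ d1.c) = true := ⟨2, [.aff 3 0, .cnt 0 1136, .base
  0 37160 2, .two 2 37160, .two 1 115829, .cell [(true, 1), (false, 4), (true, 2)], .base 0 26049 2, .two 2 26049,
  .two 1 18075, .cell [(true, 5), (true, 1), (true, 0), (false, 10)], .base 0 114581 1, .two 1 114581, .cell
  [(true, 4), (false, 11), (true, 5), (true, 12), (false, 9), (true, 1), (true, 10)], .base 0 82068 1, .two 1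
  82068, .cell [(true, 11), (false, 14), (false, 8), (false, 4), (true, 15), (false, 12), (true, 1), (false, 6)],
  .base 0 7334 1, .cell [(true, 0), (true, 4)], .sum 0 1, .cell [(true, 11), (false, 18), (false, 5), (true, 12),
  (true, 8), (false, 0), (false, 19), (false, 16), (true, 17), (false, 4)], .base 0 120071 2, .two 2 120071, .cell
  [(true, 22), (true, 16), (false, 21), (true, 9), (true, 2), (true, 6), (true, 17), (false, 12), (true, 4), (true,
  23), (true, 1), (false, 19), (false, 11)], .sum 0 2, .two 2 118416, .cell [(true, 19), (true, 15), (true, 4),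
  (true, 20), (false, 26), (true, 25), (true, 13)], .base 0 23257 2, .cell [(true, 29), (true, 23), (false, 28),
  (true, 24), (true, 13), (false, 19), (false, 16), (false, 9), (false, 11), (false, 1), (true, 30), (true, 8),
  (false, 5), (false, 3)], .sum 0 1, .cell [(true, 0), (true, 19)], .sum 0 1, .cell [(false, 34), (true, 0), (true,
  33), (true, 32), (true, 20), (true, 13), (true, 2), (false, 8), (true, 27), (false, 5), (false, 23), (false, 17),
  (false, 15), (false, 9), (false, 4)], .base 0 78436 2, .two 1 6583, .cell [(true, 0), (true, 14)], .sum 0 2, .two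
  1 128787, .cell [(true, 0), (true, 18)], .sum 0 1, .cell [(true, 0), (true, 11)], .sum 0 1, .cell [(true, 0),
  (true, 30)], .sum 0 1, .cell [(true, 0), (true, 5)], .sum 0 1, .fin [11520661, 9247187, 5260801, 10967278,
  12524818, 3864585, 13159866, 6864277, 3197032, 345579, 14613780, 13040250, 14084045, 6124988, 4777784, 965921,
  6884028, 5997997, 4700892, 4702985, 16265779, 11624423, 7461629, 13537507]], by
  rw [LF.bndG.2]; decide +kernel⟩

end Cfsg.Agent.H123.Cls.CoD
end
end

-- part: H123/Cls/LWd
section
set_option linter.all false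
open scoped Cfsg.Agent.FastGrp

/-!
# `Co1` : words of the classes (helper123)
-/

set_option autoImplicit false
set_option maxRecDepth 1000000

namespace Cfsg.Agent.H123.Cls.CoD

open Cfsg.Agent.H123.Cls

/-- all -/
noncomputable def allE (f : Ent → Bool) (l : List Ent) : Bool := List.rec true (fun x _ ih => band (f x) ih) l

theorem allE_iff (f : Ent → Bool) : ∀ l : List Ent, allE f l = true ↔ ∀ x ∈ l, f x = true
  | [] => by simp [allE]
  | x :: l => by
    have e : allE f (x :: l) = band (f x) (allE f l) := rfl
    rw [e, band_eq, allE_iff f l, List.forall_mem_cons]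

theorem allW : ∀ d ∈ Dl, okW MA MB d = true := fun d hd =>
  LF.okW_of ((allE_iff _ _).1 (by decide +kernel : allE (LF.okWP MA MB) Dl = true) d hd)

/-- all pairs, without the pair `(93, 99)` -/
noncomputable def pwE (l : List Ent) : Bool :=
  List.rec true (fun x l ih => band (allE (fun y => cnd (dif x.K y.K) true (band (eqL x.R d93.R) (eqL y.R d99.R))) l) ih) l

theorem pwE_iff : ∀ l : List Ent, pwE l = true → l.Pairwise fun x y =>
    dif x.K y.K = true ∨ (x.R = d93.R ∧ y.R = d99.R)
  | [], _ => List.Pairwise.nil
  | x :: l, h => by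
    have e : pwE (x :: l) = band (allE (fun y => cnd (dif x.K y.K) true (band (eqL x.R d93.R) (eqL y.R d99.R))) l)
      (pwE l) := rfl
    rw [e, band_eq, allE_iff] at h
    refine List.Pairwise.cons (fun y hy => ?_) (pwE_iff l h.2)
    have h1 := h.1 y hy
    cases h2 : dif x.K y.K
    · rw [h2, cnd_false, band_eq] at h1
      exact Or.inr ⟨eqL_eq h1.1, eqL_eq h1.2⟩
    · exact Or.inl rfl

theorem pwD : Dl.Pairwise fun x y => dif x.K y.K = true ∨ (x.R = d93.R ∧ y.R = d99.R) :=
  pwE_iff _ (by decide +kernel)

/-- sum of the lengths of the classes -/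
noncomputable def sumE (a : ℕ) (l : List Ent) : ℕ := List.rec 0 (fun d _ ih => Nat.add (Nat.div a (Nat.succ d.c)) ih) l

theorem sumE_eq (a : ℕ) : ∀ l : List Ent, sumE a l = (l.map fun d => a / (d.c + 1)).sum
  | [] => rfl
  | d :: l => by
    rw [List.map_cons, List.sum_cons, ← sumE_eq a l]
    rfl

theorem sumD : (Dl.map fun d => 4157776806543360000 / (d.c + 1)).sum = 4157776806543360000 := by
  rw [← sumE_eq]
  exact Nat.eq_of_beq_eq_true (by decide +kernel)

end Cfsg.Agent.H123.Cls.CoD

private theorem dce_d4e6fccd304c : _root_.True := by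
  try have : _root_.True := by simp only [_root_.Cfsg.Agent.H123.Cls.CoD.allE.eq_1]
  exact _root_.True.intro
end
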